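import Cfsg.Agent.QTKE.Solv.Setting
import Cfsg.Agent.S1822
import Cfsg.Agent.S1824

/-!
Solvable uniqueness groups acting nontrivially on `Ω₁(Z(O₂(X)))`: the prime is three or five.
-/

set_option autoImplicit false
set_option linter.unusedSectionVars false
set_option linter.style.haveILetI false

namespace Cfsg.Lib.QTSolv

open Subgroup
open Cfsg.Lib.FFSLTwo (cj mem_cj fixA phi_mul phi_one)
open Cfsg.Lib.Qrc (exists_sec modLift modLift_injective)
open scoped commutatorElement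

universe u

variable {G : Type u} [Group G] [Finite G]

/-- the module data -/
structure Mdl (T : Sylow 2 G) (X : Subgroup G) (p : ℕ) (R V : Subgroup G) : Prop where
  d : Dat (T : Subgroup G) X p
  hRdef : R = (T : Subgroup G) ⊓ cq X
  hV : Cfsg.IsElementaryAbelian 2 V
  hVn : normalizer (X : Set G) ⊓ normalizer (R : Set G) ≤ normalizer (V : Set G)
  hVne : V ≠ ⊥
  hVfree : ∀ v ∈ V, v ∈ centralizer (X : Set G) → v = 1
  hOV : Cfsg.pCoreOf 2 X ≤ centralizer (V : Set G)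
  hRV : R ≤ centralizer (V : Set G)
  hVX : V ≤ X
  hOR : Cfsg.pCoreOf 2 X ≤ R
  hXR : X ≤ normalizer (R : Set G)
  hTR : (T : Subgroup G) ≤ normalizer (R : Set G)

theorem core_le_T (T : Sylow 2 G) {X : Subgroup G} (hT : (T : Subgroup G) ≤ normalizer (X : Set G)) :
    Cfsg.pCoreOf 2 X ≤ (T : Subgroup G) := by
  haveI : Fact (Nat.Prime 2) := ⟨Nat.prime_two⟩
  have hn : (T : Subgroup G) ≤ normalizer (Cfsg.pCoreOf 2 X : Set G) :=
    hT.trans (Cfsg.Lib.JComp.normalizer_le_pCoreOf 2 X)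
  have h := T.is_maximal' ((Cfsg.Lib.JComp.isPGroup_pCoreOf X).to_sup_of_normal_left' T.2 hn) le_sup_right
  exact h ▸ le_sup_left

theorem cq_normal (X : Subgroup G) : normalizer (X : Set G) ≤ normalizer (cq X : Set G) :=
  Cfsg.Lib.Qrc.le_normalizer_map_of_normal (act X).ker

theorem exists_mdl {T : Sylow 2 G} {X : Subgroup G} {p : ℕ} (d : Dat (T : Subgroup G) X p)
    (hf : Cfsg.moduleV X ≠ ⊥) : ∃ R V, Mdl T X p R V := by
  haveI : Fact (Nat.Prime 2) := ⟨Nat.prime_two⟩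
  set O := Cfsg.pCoreOf 2 X with hO
  set R := (T : Subgroup G) ⊓ cq X with hR
  set U := Cfsg.omegaOneCenter 2 O with hUdef
  have hOT : O ≤ (T : Subgroup G) := core_le_T T d.hTX
  have hXO : X ≤ normalizer (O : Set G) := le_normalizer.trans (Cfsg.Lib.JComp.normalizer_le_pCoreOf 2 X)
  have hOX : O ≤ X := map_subtype_le _
  have hOR : O ≤ R := le_inf hOT fun o ho => mem_cq.2 ⟨le_normalizer (hOX ho), fun x hx => by
    rw [show ⁅x, o⁆ = (x * o * x⁻¹) * o⁻¹ by rw [commutatorElement_def]]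
    exact mul_mem ((mem_normalizer_iff.1 (hXO hx) o).1 ho) (inv_mem ho)⟩
  have hXR : X ≤ normalizer (R : Set G) := Cfsg.Lib.JComp.le_normalizer_of_conj fun x hx r hr => by
    have h : ⁅x, r⁆ ∈ R := hOR ((mem_cq.1 hr.2).2 x hx)
    rw [show x * r * x⁻¹ = ⁅x, r⁆ * r by rw [commutatorElement_def]; group]
    exact mul_mem h hr
  have hTR : (T : Subgroup G) ≤ normalizer (R : Set G) := Cfsg.Lib.Coprime.le_normalizer_inf le_normalizer
    (d.hTX.trans (cq_normal X))
  have hUe : Cfsg.IsElementaryAbelian 2 U := Cfsg.Lib.FFModule.omegaOneCenter_elementary O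
  have hUn : normalizer (X : Set G) ≤ normalizer (U : Set G) := by
    refine Cfsg.Lib.JComp.le_normalizer_of_conj fun g hg x hx => ?_
    have hgO := Cfsg.Lib.JComp.normalizer_le_pCoreOf 2 X hg
    have h : U ≤ U.comap (MulAut.conj g).toMonoidHom := by
      rw [hUdef]
      unfold Cfsg.omegaOneCenter Cfsg.omegaOne
      refine (closure_le _).2 ?_
      rintro y ⟨⟨hy, hyc⟩, hy2⟩
      refine subset_closure ⟨⟨(mem_normalizer_iff.1 hgO y).1 hy, ?_⟩, ?_⟩
      · exact (mem_normalizer_iff.1 (Cfsg.Lib.Large.normalizer_centralizer_le O hgO) y).1 hyc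
      · show (g * y * g⁻¹) ^ 2 = 1
        rw [conj_pow, hy2, mul_one, mul_inv_cancel]
    exact h hx
  have hOU : O ≤ centralizer (U : Set G) := le_centralizer_iff.1 fun u hu =>
    (Cfsg.Lib.FFModule.omegaOneCenter_mem hu).2
  have hUX : U ≤ X := fun u hu => hOX (Cfsg.Lib.FFModule.omegaOneCenter_mem hu).1
  set V0 := U ⊓ centralizer (R : Set G) with hV0
  set V := ⁅V0, X⁆ with hVdef
  set N := normalizer (X : Set G) ⊓ normalizer (R : Set G) with hN
  have hNV0 : N ≤ normalizer (V0 : Set G) := Cfsg.Lib.Coprime.le_normalizer_inf (inf_le_left.trans hUn)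
    (inf_le_right.trans (Cfsg.Lib.Large.normalizer_centralizer_le R))
  have hXN : X ≤ N := le_inf le_normalizer hXR
  have hVV0 : V ≤ V0 := Cfsg.Lib.Qrc.commutator_le_left_of_normalize (hXN.trans hNV0)
  have hVU : V ≤ ⁅U, X⁆ := commutator_mono inf_le_left le_rfl
  have hfree : ∀ v ∈ ⁅U, X⁆, v ∈ centralizer (X : Set G) → v = 1 := fun v hv =>
    no_fix hUe (le_normalizer.trans hUn) hOU d.odd_relIndex hv
  refine ⟨R, V, d, rfl, Cfsg.Lib.ElemToolkit.elementary_mono (hVV0.trans inf_le_left) hUe, ?_, ?_,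
    fun v hv => hfree v (hVU hv), hOU.trans (centralizer_le (hVV0.trans inf_le_left)),
    le_centralizer_iff.1 (hVV0.trans inf_le_right), (hVV0.trans inf_le_left).trans hUX, hOR, hXR, hTR⟩
  · intro n hn
    refine Cfsg.Lib.Qrc.mem_normalizer_of_cj ?_
    rw [hVdef, Cfsg.Lib.Qrc.cj_commutator, Cfsg.Lib.Qrc.cj_of_mem_normalizer (hNV0 hn),
      Cfsg.Lib.Qrc.cj_of_mem_normalizer hn.1]
  · intro hV0bot
    set U1 := ⁅U, X⁆ with hU1
    have hU1e : Cfsg.IsElementaryAbelian 2 U1 := Cfsg.Lib.ElemToolkit.elementary_mono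
      (Cfsg.Lib.Qrc.commutator_le_left_of_normalize (le_normalizer.trans hUn)) hUe
    have hRX : R ≤ normalizer (X : Set G) := inf_le_left.trans d.hTX
    have hRU1 : R ≤ normalizer (U1 : Set G) := fun r hr => Cfsg.Lib.Qrc.mem_normalizer_of_cj (by
      rw [hU1, Cfsg.Lib.Qrc.cj_commutator, Cfsg.Lib.Qrc.cj_of_mem_normalizer (hUn (hRX hr)),
        Cfsg.Lib.Qrc.cj_of_mem_normalizer (hRX hr)])
    obtain ⟨E, iE, iEf, φ, π, s⟩ := exists_sec (M := ⊥) hU1e hRU1
      (normalizer_eq_top (H := (⊥ : Subgroup G)) ▸ le_top)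
    have hne : (⊤ : AddSubgroup E) ≠ ⊥ := fun h => hf (eq_bot_iff.2 fun u hu =>
      mem_bot.2 (mem_bot.1 ((s.eq_zero u hu).1 (AddSubgroup.mem_bot.1 (h ▸ AddSubgroup.mem_top (π u))))))
    obtain ⟨e, -, he0, he⟩ := Cfsg.Lib.FFModule.exists_fix_mem (φ := φ) s.char
      ((T.2.to_le inf_le_left : IsPGroup 2 R).of_equiv Subgroup.topEquiv.symm) (⊤ : AddSubgroup E)
      (fun _ _ _ _ => AddSubgroup.mem_top _) hne
    obtain ⟨u, hu, rfl⟩ := s.surj e
    have huR : u ∈ centralizer (R : Set G) := mem_centralizer_iff.2 fun r hr => by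
      have h := (s.fix_iff ⟨r, hr⟩ hu).1 (he ⟨r, hr⟩ (mem_top _))
      rw [mem_bot, commutatorElement_eq_one_iff_mul_comm] at h
      exact h.symm
    have huV0 : u ∈ V0 :=
      ⟨Cfsg.Lib.Qrc.commutator_le_left_of_normalize (le_normalizer.trans hUn) hu, huR⟩
    have huX : u ∈ centralizer (X : Set G) := commutator_eq_bot_iff_le_centralizer.1 hV0bot huV0
    exact he0 ((s.eq_zero u hu).2 (mem_bot.2 (hfree u hu huX)))

namespace Mdl

variable {T : Sylow 2 G} {X R V : Subgroup G} {p : ℕ} (m : Mdl T X p R V)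
include m

theorem le_N : X ⊔ (T : Subgroup G) ≤ normalizer (X : Set G) ⊓ normalizer (R : Set G) :=
  sup_le (le_inf le_normalizer m.hXR) (le_inf m.d.hTX m.hTR)

theorem inf_phi : X ⊓ centralizer (V : Set G) ≤ Cfsg.twoPhiCore X := by
  refine (m.d.hD.inf_cases _ ((m.le_N.trans m.hVn).trans
    (Cfsg.Lib.Large.normalizer_centralizer_le V))).resolve_left fun h => m.hVne ?_
  exact eq_bot_iff.2 fun v hv => mem_bot.2 (m.hVfree v hv
    (le_centralizer_iff.1 h hv))

theorem mem_R {t : G} (ht : t ∈ (T : Subgroup G)) (h : ∀ x ∈ X, ⁅x, t⁆ ∈ Cfsg.twoPhiCore X) : t ∈ R := by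
  haveI : Fact (Nat.Prime 2) := ⟨Nat.prime_two⟩
  obtain ⟨j, hj⟩ := T.2 ⟨t, ht⟩
  have hj' : t ^ 2 ^ j = 1 := congrArg Subtype.val hj
  have h1 := m.d.stab_eq_one ⟨t, m.d.hTX ht⟩ h
    (((Nat.coprime_primes Nat.prime_two m.d.hp).2 (Ne.symm m.d.hp2)).pow_left j)
    (by rw [← map_pow, show (⟨t, m.d.hTX ht⟩ : ↥(normalizer (X : Set G))) ^ 2 ^ j = 1 from Subtype.ext hj', map_one])
  rw [m.hRdef]
  exact ⟨ht, ⟨⟨t, m.d.hTX ht⟩, h1, rfl⟩⟩

theorem T_cent : (T : Subgroup G) ⊓ centralizer (V : Set G) = R := by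
  refine le_antisymm ?_ (le_inf (m.hRdef.le.trans inf_le_left) m.hRV)
  rintro t ⟨ht, htV⟩
  refine m.mem_R ht fun x hx => m.inf_phi ⟨?_, ?_⟩
  · rw [show ⁅x, t⁆ = x * (t * x⁻¹ * t⁻¹) by rw [commutatorElement_def]; group]
    exact mul_mem hx ((mem_normalizer_iff.1 (m.d.hTX ht) _).1 (inv_mem hx))
  · have hxn := Cfsg.Lib.Large.normalizer_centralizer_le V (m.hVn (m.le_N (mem_sup_left hx)))
    rw [commutatorElement_def]
    exact mul_mem ((mem_normalizer_iff.1 hxn t).1 htV) ((centralizer (V : Set G)).inv_mem htV)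

theorem core : Cfsg.pCoreOf 2 (X ⊔ (T : Subgroup G)) = R := by
  haveI : Fact (Nat.Prime 2) := ⟨Nat.prime_two⟩
  refine le_antisymm ?_ ?_
  · intro q hq
    set Q2 := Cfsg.pCoreOf 2 (X ⊔ (T : Subgroup G))
    have hn : X ⊔ (T : Subgroup G) ≤ normalizer (Q2 : Set G) :=
      le_normalizer.trans (Cfsg.Lib.JComp.normalizer_le_pCoreOf 2 _)
    have hQT : Q2 ≤ (T : Subgroup G) := by
      have h := T.is_maximal' ((Cfsg.Lib.JComp.isPGroup_pCoreOf _).to_sup_of_normal_left' T.2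
        (le_sup_right.trans hn)) le_sup_right
      exact h ▸ le_sup_left
    rw [m.hRdef]
    refine ⟨hQT hq, mem_cq.2 ⟨m.d.hTX (hQT hq), fun x hx => ?_⟩⟩
    refine Cfsg.Lib.JComp.le_pCoreOf ((T.2.to_le hQT).to_le inf_le_left : IsPGroup 2 ↥(Q2 ⊓ X)) inf_le_right
      (Cfsg.Lib.Coprime.le_normalizer_inf (le_sup_left.trans hn) le_normalizer) ⟨?_, ?_⟩
    · rw [commutatorElement_def]
      exact mul_mem ((mem_normalizer_iff.1 (hn (mem_sup_left hx)) q).1 hq) (Q2.inv_mem hq)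
    · rw [show ⁅x, q⁆ = x * (q * x⁻¹ * q⁻¹) by rw [commutatorElement_def]; group]
      exact mul_mem hx ((mem_normalizer_iff.1 (m.d.hTX (hQT hq)) _).1 (inv_mem hx))
  · exact Cfsg.Lib.JComp.le_pCoreOf (T.2.to_le (m.hRdef.le.trans inf_le_left))
      ((m.hRdef.le.trans inf_le_left).trans le_sup_right) (sup_le m.hXR m.hTR)

theorem mem_calR2 : V ∈ Cfsg.calR2 (X ⊔ (T : Subgroup G)) := by
  refine ⟨m.hVX.trans le_sup_left, m.le_N.trans m.hVn, m.hV, fun N hN hNn hCN ⟨k, hk⟩ => ?_⟩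
  set M0 := X ⊔ (T : Subgroup G)
  set C := M0 ⊓ centralizer (V : Set G) with hC
  haveI : (C.subgroupOf N).Normal := normal_subgroupOf_of_le_normalizer (hN.trans
    (Cfsg.Lib.Coprime.le_normalizer_inf le_normalizer
      ((m.le_N.trans m.hVn).trans (Cfsg.Lib.Large.normalizer_centralizer_le V))))
  have hsmall : ∀ x ∈ X, x ∈ N → x ∈ centralizer (V : Set G) := by
    intro x hx hxN
    have h1 : x ^ 2 ^ k ∈ centralizer (V : Set G) := by
      have h := pow_index_mem (C.subgroupOf N) (⟨x, hxN⟩ : N)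
      rw [relIndex] at hk
      rw [hk] at h
      exact (mem_subgroupOf.1 h).2
    obtain ⟨n, hn, -⟩ := m.d.card_quo
    have hcop : (2 ^ k).Coprime (p ^ n) :=
      Nat.Coprime.pow k n ((Nat.coprime_primes Nat.prime_two m.d.hp).2 (Ne.symm m.d.hp2))
    set z : quo X := ((⟨x, hx⟩ : ↥X) : quo X)
    obtain ⟨j, hj⟩ : ∃ j : ℕ, (z ^ 2 ^ k) ^ j = z := by
      have hmem : z ∈ zpowers (z ^ 2 ^ k) := by
        have he : orderOf (z ^ 2 ^ k) = orderOf z :=
          Nat.Coprime.orderOf_pow (Nat.Coprime.coprime_dvd_left (hn ▸ orderOf_dvd_natCard z) hcop.symm)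
        rw [eq_of_le_of_card_ge (zpowers_le.2 (pow_mem (mem_zpowers z) _)) (by
          rw [Nat.card_zpowers, Nat.card_zpowers, he])]
        exact mem_zpowers z
      exact (mem_powers_iff_mem_zpowers.2 hmem : z ∈ Submonoid.powers _)
    rw [← pow_mul, ← QuotientGroup.mk_pow, QuotientGroup.eq] at hj
    have h2 : ((((⟨x, hx⟩ : ↥X) ^ (2 ^ k * j))⁻¹ * ⟨x, hx⟩ : ↥X) : G) ∈ centralizer (V : Set G) :=
      m.hOV (mem_map_of_mem X.subtype hj)
    push_cast at h2
    have h3 := mul_mem (pow_mem h1 j) h2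
    rwa [← pow_mul, mul_inv_cancel_left] at h3
  refine le_antisymm (fun n hn => ?_) hCN
  have hnXT := hN hn
  rw [← SetLike.mem_coe, coe_mul_of_right_le_normalizer_left X (T : Subgroup G) m.d.hTX] at hnXT
  obtain ⟨x, hx, t, ht, rfl⟩ := hnXT
  have hxn := hNn (mem_sup_left hx : x ∈ M0)
  have htR : t ∈ R := by
    refine m.mem_R ht fun y hy => ?_
    have hynN : ⁅y, x * t⁆ ∈ N := by
      rw [commutatorElement_def]
      exact mul_mem ((mem_normalizer_iff.1 (hNn (mem_sup_left hy : y ∈ M0)) _).1 hn) (inv_mem hn)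
    have hynX : ⁅y, x * t⁆ ∈ X := by
      rw [show ⁅y, x * t⁆ = y * ((x * t) * y⁻¹ * (x * t)⁻¹) by rw [commutatorElement_def]; group]
      exact mul_mem hy ((mem_normalizer_iff.1 (mul_mem (le_normalizer hx) (m.d.hTX ht)) _).1 (inv_mem hy))
    have h1 := m.inf_phi ⟨hynX, hsmall _ hynX hynN⟩
    rw [show ⁅y, t⁆ = x⁻¹ * ((⁅y, x⁆)⁻¹ * ⁅y, x * t⁆) * x⁻¹⁻¹ by simp only [commutatorElement_def]; group]
    exact (mem_normalizer_iff.1 (phi_normal (inv_mem (le_normalizer hx))) _).1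
      (mul_mem (inv_mem (m.d.hD.comm y hy x hx)) h1)
  have htC : t ∈ C := ⟨mem_sup_right ht, m.hRV htR⟩
  have hxN : x ∈ N := by simpa using mul_mem hn (inv_mem (hCN htC))
  exact mul_mem ⟨mem_sup_left hx, hsmall x hx hxN⟩ htC

theorem odd_M0 : Cfsg.oddGenerated (X ⊔ (T : Subgroup G)) = X := by
  refine le_antisymm ((closure_le _).2 fun y hy => Cfsg.Lib.Qrc.mem_of_sup T.2 m.d.hTX hy.1 hy.2) ?_
  conv_lhs => rw [← m.d.hodd]
  exact closure_mono fun y hy => ⟨mem_sup_left hy.1, hy.2⟩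

/-- the abstract configuration applies -/
theorem five (h5 : 5 ≤ p) (hcub : Cfsg.CubicParamLE (X ⊔ (T : Subgroup G)) V 2 ∨
      Cfsg.QuadParamLE (X ⊔ (T : Subgroup G)) V 2) :
    p = 5 ∧ ∀ r : ℕ, r.Prime → r ≠ 2 → r ≠ 5 → ∀ g ∈ normalizer (X : Set G),
      (∀ x ∈ X, ⁅x, g ^ r⁆ ∈ Cfsg.pCoreOf 2 X) → ∀ x ∈ X, ⁅x, g⁆ ∈ Cfsg.pCoreOf 2 X := by
  classical
  haveI : Fact (Nat.Prime 2) := ⟨Nat.prime_two⟩
  haveI := Fact.mk m.d.hp
  set M0 := X ⊔ (T : Subgroup G)
  obtain ⟨B, hB, hind, hidx⟩ : ∃ B : Subgroup G, B ≤ M0 ∧ Cfsg.InducesElemAbelianTwoGroupOn B V ∧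
      (V ⊓ centralizer (B : Set G)).relIndex V ≤ ((centralizer (V : Set G)).relIndex B) ^ 2 := by
    rcases hcub with ⟨B, h1, h2, -, h4⟩ | ⟨B, h1, h2, -, h4⟩ <;> exact ⟨B, h1, h2, h4⟩
  set H := normalizer (X : Set G) ⊓ normalizer (R : Set G) with hH
  obtain ⟨E, iE, iEf, φ, π, s⟩ := exists_sec (M := ⊥) m.hV m.hVn (normalizer_eq_top (H := (⊥ : Subgroup G)) ▸ le_top)
  set mk := QuotientGroup.mk' φ.ker
  have hker : ∀ h : ↥H, mk h = 1 ↔ (h : G) ∈ centralizer (V : Set G) := fun h => by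
    rw [QuotientGroup.mk'_apply, QuotientGroup.eq_one_iff]
    refine (s.ker_mem h.2).trans ⟨fun hh => mem_centralizer_iff.2 fun v hv =>
      commutatorElement_eq_one_iff_mul_comm.1 (mem_bot.1 (hh v hv)), fun hh v hv =>
      mem_bot.2 (commutatorElement_eq_one_iff_mul_comm.2 (mem_centralizer_iff.1 hh v hv))⟩
  have hXH : X ≤ H := le_sup_left.trans m.le_N
  have hTH : (T : Subgroup G) ≤ H := le_sup_right.trans m.le_N
  have hBH : B ≤ H := hB.trans m.le_N
  let gX : ↥X →* ↥H ⧸ φ.ker := mk.comp (Subgroup.inclusion hXH)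
  set Q := gX.range with hQ
  set Φ := ((Cfsg.twoPhiCore X).subgroupOf X).map gX with hΦ
  let gB : ↥B →* ↥H ⧸ φ.ker := mk.comp (Subgroup.inclusion hBH)
  set A := gB.range with hA
  have hgker : ∀ x : ↥X, gX x = 1 ↔ (x : G) ∈ centralizer (V : Set G) := fun x => hker _
  have hΦmem : ∀ x : ↥X, gX x ∈ Φ ↔ (x : G) ∈ Cfsg.twoPhiCore X := by
    intro x
    refine ⟨?_, fun h => mem_map_of_mem gX (mem_subgroupOf.2 h)⟩
    rintro ⟨y, hy, hyx⟩
    have h1 : gX (y⁻¹ * x) = 1 := by rw [map_mul, map_inv, hyx, inv_mul_cancel]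
    have h2 := m.inf_phi ⟨(y⁻¹ * x).2, (hgker _).1 h1⟩
    have h3 := mul_mem (mem_subgroupOf.1 hy) h2
    push_cast at h3
    rwa [mul_inv_cancel_left] at h3
  have hkerle : (Cfsg.pCore 2 ↥X) ≤ gX.ker := fun o ho => (hgker o).2 (m.hOV (mem_map_of_mem X.subtype ho))
  have hQpow : ∀ z ∈ Q, ∃ n, z ^ p ^ n = 1 := by
    rintro _ ⟨x, rfl⟩
    obtain ⟨n, hn⟩ := m.d.pgroup (x : quo X)
    rw [← QuotientGroup.mk_pow, QuotientGroup.eq_one_iff] at hn
    exact ⟨n, by rw [← map_pow]; exact hkerle hn⟩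
  have hcomm : ∀ x y : ↥X, ⁅gX x, gX y⁆ ∈ Φ := fun x y => by
    rw [← map_commutatorElement, hΦmem, commutatorElement_def]
    push_cast
    exact m.d.hD.comm x x.2 y y.2
  have hCb : ∀ b : ↥B, gB b = 1 ↔ (b : G) ∈ centralizer (V : Set G) := fun b => hker _
  have hAcard : Nat.card A = (centralizer (V : Set G)).relIndex B := by
    rw [hA, ← index_ker, relIndex]
    congr 1
    ext b
    exact (hCb b).trans mem_subgroupOf.symm
  have hfixA : s.pre (fixA (modLift φ) A) = V ⊓ centralizer (B : Set G) := by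
    ext v
    rw [Cfsg.Lib.Qrc.SecData.mem_pre, mem_inf]
    refine and_congr_right fun hv => ⟨fun h => mem_centralizer_iff.2 fun b hb => ?_, fun h => ?_⟩
    · have h1 := (s.fix_iff ⟨b, hBH hb⟩ hv).1 (h _ ⟨⟨b, hb⟩, rfl⟩)
      exact (commutatorElement_eq_one_iff_mul_comm.1 (mem_bot.1 h1)).symm
    · rintro _ ⟨b, rfl⟩
      refine (s.fix_iff _ hv).2 ?_
      rw [show ((Subgroup.inclusion hBH b : ↥H) : G) = (b : G) from rfl,
        commutatorElement_eq_one_iff_mul_comm.2 (mem_centralizer_iff.1 h b b.2).symm]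
      exact one_mem _
  have hconf : Conf (modLift φ) p Q Φ A :=
    { hinj := modLift_injective φ
      hchar := s.char
      hp := m.d.hp
      h5 := h5
      hQn := by
        constructor
        rintro _ ⟨x, rfl⟩ k
        induction k using QuotientGroup.induction_on with
        | H h =>
          exact ⟨⟨(h : G) * x * (h : G)⁻¹, (mem_normalizer_iff.1 h.2.1 x).1 x.2⟩, rfl⟩
      hΦn := by
        constructor
        rintro _ ⟨x, hx, rfl⟩ k
        induction k using QuotientGroup.induction_on with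
        | H h =>
          exact ⟨⟨(h : G) * x * (h : G)⁻¹, (mem_normalizer_iff.1 h.2.1 x).1 x.2⟩,
            mem_subgroupOf.2 ((mem_normalizer_iff.1 (phi_normal h.2.1) _).1 (mem_subgroupOf.1 hx)), rfl⟩
      hQp := fun z => by
        obtain ⟨n, hn⟩ := hQpow z z.2
        exact ⟨n, Subtype.ext hn⟩
      hle := map_le_range gX _
      hidx := by
        rw [hQ, ← index_comap, show Φ.comap gX = (Cfsg.twoPhiCore X).subgroupOf X from ?_, ← relIndex,
          m.d.hD.index]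
        ext x
        exact (hΦmem x).trans mem_subgroupOf.symm
      hexp := by
        rintro _ ⟨x, rfl⟩
        rw [← map_pow, hΦmem]
        exact m.d.hD.exp x x.2
      hcomm := by rintro _ ⟨x, rfl⟩ _ ⟨y, rfl⟩; exact hcomm x y
      hsmall := by
        intro hd
        have h1 : Nat.card Q ∣ Nat.card (quo X) := by
          rw [hQ, ← index_ker, ← index_eq_card]
          exact index_dvd_of_le hkerle
        obtain ⟨n, hn, hn3⟩ := m.d.card_quo
        have h2 := hd.trans h1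
        rw [hn] at h2
        have := (Nat.pow_dvd_pow_iff_le_right m.d.hp.one_lt).1 h2
        omega
      hnc := by
        intro hne
        by_contra hcon
        push Not at hcon
        refine hne (eq_bot_iff.2 ?_)
        rintro _ ⟨f, hf, rfl⟩
        rw [mem_bot]
        have hfr := (mem_phi f.2).1 (mem_subgroupOf.1 hf)
        rcases m.d.hB with ⟨hc2, -, -⟩ | ⟨hc3, hnab⟩
        · have h1 := (frattini (quo X)).card_mul_index
          rw [Cfsg.Lib.QTSolUniq.frattini_quotient_sq m.d.hB, hc2] at h1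
          have h2 : Nat.card ↥(frattini (quo X)) = 1 := by
            have := pow_pos m.d.hp.pos 2
            nlinarith
          rw [Subgroup.card_eq_one.1 h2, mem_bot, QuotientGroup.eq_one_iff] at hfr
          exact hkerle hfr
        · haveI := Cfsg.Lib.PGroups.isMulCommutative_quotient_frattini m.d.pgroup
          obtain ⟨b₁, b₂, hb⟩ : ∃ b₁ b₂ : quo X, ⁅b₁, b₂⁆ ≠ 1 := by
            by_contra hall
            push Not at hall
            exact hnab ⟨⟨fun a b => commutatorElement_eq_one_iff_mul_comm.1 (hall a b)⟩⟩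
          obtain ⟨x₁, rfl⟩ := QuotientGroup.mk_surjective b₁
          obtain ⟨x₂, rfl⟩ := QuotientGroup.mk_surjective b₂
          set c := ⁅((x₁ : ↥X) : quo X), ((x₂ : ↥X) : quo X)⁆ with hcdef
          have hcΦ : c ∈ frattini (quo X) := by
            rw [← QuotientGroup.eq_one_iff, hcdef, ← QuotientGroup.mk'_apply, map_commutatorElement]
            exact commutatorElement_eq_one_iff_mul_comm.2 (mul_comm' _ _)
          have hcard : Nat.card ↥(frattini (quo X)) = p := by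
            have h1 := (frattini (quo X)).card_mul_index
            rw [Cfsg.Lib.QTSolUniq.frattini_quotient_sq m.d.hB, hc3] at h1
            exact Nat.eq_of_mul_eq_mul_right (pow_pos m.d.hp.pos 2) (by rw [h1]; ring)
          have hgen : zpowers c = frattini (quo X) := by
            refine eq_of_le_of_card_ge (zpowers_le.2 hcΦ) ?_
            rw [hcard, Nat.card_zpowers]
            have hd := hcard ▸ Subgroup.orderOf_dvd_natCard _ hcΦ
            rcases (Nat.dvd_prime m.d.hp).1 hd with h | h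
            · exact absurd (orderOf_eq_one_iff.1 h) hb
            · exact h.ge
          rw [← hgen] at hfr
          obtain ⟨j, hj⟩ := mem_zpowers_iff.1 hfr
          rw [hcdef, ← QuotientGroup.mk'_apply, ← QuotientGroup.mk'_apply, ← map_commutatorElement, ← map_zpow,
            QuotientGroup.mk'_apply, QuotientGroup.eq] at hj
          have h2 := MonoidHom.mem_ker.1 (hkerle hj)
          rw [map_mul, map_inv, map_zpow, map_commutatorElement, inv_mul_eq_one] at h2
          rw [← h2, commutatorElement_eq_one_iff_mul_comm.2 (hcon _ ⟨x₁, rfl⟩ _ ⟨x₂, rfl⟩), one_zpow]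
      hfix := by
        intro v hv
        obtain ⟨w, hw, rfl⟩ := s.surj v
        refine (s.eq_zero w hw).2 (mem_bot.2 (m.hVfree w hw (mem_centralizer_iff.2 fun x hx => ?_)))
        have h1 := (s.fix_iff ⟨x, hXH hx⟩ hw).1 (hv _ ⟨⟨x, hx⟩, rfl⟩)
        exact (commutatorElement_eq_one_iff_mul_comm.1 (mem_bot.1 h1)).symm
      hA := by
        refine ⟨⟨⟨?_⟩⟩, ?_⟩
        · rintro ⟨_, b, rfl⟩ ⟨_, b', rfl⟩
          refine Subtype.ext ?_
          show gB b * gB b' = gB b' * gB b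
          rw [← commutatorElement_eq_one_iff_mul_comm, ← map_commutatorElement, hCb, commutatorElement_def]
          push_cast
          exact hind.2.2 b b.2 b' b'.2
        · rintro _ ⟨b, rfl⟩
          rw [← map_pow, hCb]
          push_cast
          exact hind.2.1 b b.2
      hAne := fun h => hind.1 fun b hb => (hCb ⟨b, hb⟩).1 (mem_bot.1 (h ▸ ⟨⟨b, hb⟩, rfl⟩))
      hfaith := by
        rintro _ ⟨b, rfl⟩ hc
        have hb := hB b.2
        rw [← SetLike.mem_coe, coe_mul_of_right_le_normalizer_left X (T : Subgroup G) m.d.hTX] at hb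
        obtain ⟨x, hx, t, ht, hbt⟩ := hb
        have htR : t ∈ R := by
          refine m.mem_R ht fun y hy => ?_
          have hyb : ⁅y, (b : G)⁆ ∈ X := by
            rw [show ⁅y, (b : G)⁆ = y * ((b : G) * y⁻¹ * (b : G)⁻¹) by rw [commutatorElement_def]; group]
            exact mul_mem hy ((mem_normalizer_iff.1 (hBH b.2).1 _).1 (inv_mem hy))
          have h1 := hc _ ⟨⟨y, hy⟩, rfl⟩
          have e : ⁅gX ⟨y, hy⟩, gB b⁆ = gX ⟨⁅y, (b : G)⁆, hyb⟩ := by
            show ⁅mk _, mk _⁆ = mk _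
            rw [← map_commutatorElement]
            congr 1
          rw [e, hΦmem] at h1
          simp only at h1
          rw [show (b : G) = x * t from hbt.symm] at h1
          rw [show ⁅y, t⁆ = x⁻¹ * ((⁅y, x⁆)⁻¹ * ⁅y, x * t⁆) * x⁻¹⁻¹ by simp only [commutatorElement_def]; group]
          exact (mem_normalizer_iff.1 (phi_normal (inv_mem (le_normalizer hx))) _).1
            (mul_mem (inv_mem (m.d.hD.comm y hy x hx)) h1)
        have hmem : gB b ∈ Q := ⟨⟨x, hx⟩, by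
          show mk ⟨x, hXH hx⟩ = mk ⟨b, hBH b.2⟩
          rw [show (⟨b, hBH b.2⟩ : ↥H) = ⟨x, hXH hx⟩ * ⟨t, hTH ht⟩ from Subtype.ext hbt.symm, map_mul,
            (hker ⟨t, hTH ht⟩).2 (m.hRV htR), mul_one]⟩
        obtain ⟨n, hn⟩ := hQpow _ hmem
        obtain ⟨k, hk⟩ : Odd (p ^ n) := (m.d.hp.odd_of_ne_two m.d.hp2).pow
        rw [hk, pow_succ, pow_mul, ← map_pow gB b 2, (hCb _).2 (by push_cast; exact hind.2.1 b b.2), one_pow,
          one_mul] at hn
        exact hn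
      hbudget := by
        rw [← s.relIndex_pre, hfixA, hAcard]
        exact hidx }
  obtain ⟨hp5, hauto⟩ := hconf.conclusion
  refine ⟨hp5, fun r hr hr2 hr5 g hg hgr => ?_⟩
  set N := normalizer (X : Set G)
  obtain ⟨P, hP⟩ := Cfsg.Lib.FFSLTwo.card_sylow_inf (T.subtype m.d.hTX) (act X).ker
  have htop := Sylow.normalizer_sup_eq_top P
  rw [hP] at htop
  obtain ⟨n, hn, c, hc, hnc⟩ := mem_sup_of_normal_right.1 (htop.ge (mem_top (⟨g, hg⟩ : ↥N)))
  have hRN : ((T.subtype m.d.hTX : Sylow 2 ↥N) : Subgroup ↥N) ⊓ (act X).ker = R.subgroupOf N := by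
    ext z
    rw [mem_inf, Sylow.coe_subtype, mem_subgroupOf, mem_subgroupOf, m.hRdef, mem_inf, cq]
    exact and_congr_right fun _ => (mem_map_iff_mem N.subtype_injective).symm
  have hnR : (n : G) ∈ normalizer (R : Set G) := by
    rw [hRN] at hn
    refine Cfsg.Lib.JComp.le_normalizer_of_conj (H := R) (K := zpowers (n : G)) ?_ (mem_zpowers _)
    intro a ha r hr
    obtain ⟨k, rfl⟩ := mem_zpowers_iff.1 ha
    have hrN : r ∈ N := (inf_le_left.trans m.d.hTX) (m.hRdef.le hr)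
    have h := (mem_normalizer_iff.1 (zpow_mem hn k) (⟨r, hrN⟩ : ↥N)).1 (mem_subgroupOf.2 hr)
    rw [mem_subgroupOf] at h
    simpa using h
  have hn' : (n : G) ∈ H := ⟨n.2, hnR⟩
  have hact : act X ⟨g, hg⟩ = act X n := by
    rw [← hnc, map_mul, MonoidHom.mem_ker.1 hc, mul_one]
  have hnr : act X n ^ r = 1 := by
    rw [← hact, ← map_pow, act_eq_one]
    exact fun x hx => hgr x hx
  have hphi : ∀ x ∈ X, ⁅x, (n : G)⁆ ∈ Cfsg.twoPhiCore X := by
    intro x hx
    have hxn : ∀ {h : G}, h ∈ N → ⁅x, h⁆ ∈ X := fun {h} hh => by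
      rw [show ⁅x, h⁆ = x * (h * x⁻¹ * h⁻¹) by rw [commutatorElement_def]; group]
      exact mul_mem hx ((mem_normalizer_iff.1 hh _).1 (inv_mem hx))
    have h := hauto (mk ⟨n, hn'⟩) r hr hr2 hr5 (by
      rintro _ ⟨y, rfl⟩
      rw [← map_pow]
      show ⁅mk _, mk _⁆ ∈ Φ
      rw [← map_commutatorElement, (hker _).2 ?_]
      · exact one_mem _
      · have h1 := (act_eq_one X (n ^ r)).1 (by rw [map_pow, hnr]) y y.2
        push_cast at h1 ⊢
        exact m.hOV h1) (gX ⟨x, hx⟩) ⟨⟨x, hx⟩, rfl⟩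
    have e : ⁅gX ⟨x, hx⟩, mk ⟨n, hn'⟩⁆ = gX ⟨⁅x, (n : G)⁆, hxn n.2⟩ := by
      show ⁅mk _, mk _⁆ = mk _
      rw [← map_commutatorElement]
      congr 1
    rwa [e, hΦmem] at h
  have h1 := m.d.stab_eq_one n hphi ((Nat.coprime_primes hr m.d.hp).2 (hp5 ▸ hr5)) hnr
  exact (act_eq_one X ⟨g, hg⟩).1 (hact.trans h1)

end Mdl

end Cfsg.Lib.QTSolv
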