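import Cfsg.Agent.QTKE.Solv.Lines
import Cfsg.Agent.QTKE.Qrc.Sect
import Cfsg.Agent.QTKE.SolUniq.Data
import Cfsg.Agent.PGroups.AutOrder

/-!
The action of the normalizer of a member of `Ξ(G, T)` on its odd quotient.
-/

set_option autoImplicit false
set_option linter.unusedSectionVars false
set_option linter.style.haveILetI false

namespace Cfsg.Lib.QTSolv

open Subgroup
open Cfsg.Lib.FFSLTwo (fixA dd dd_apply dd_eq_zero phi_mul phi_one phi_inv_cancel phi_cancel_inv)
open Cfsg.Lib.FFModule (img)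
open scoped commutatorElement

universe u

variable {G : Type u} [Group G] [Finite G]

/-- nothing outside `1` in the commutator with an odd acting group is fixed by it -/
theorem no_fix {X U O : Subgroup G} (hU : Cfsg.IsElementaryAbelian 2 U) (hXU : X ≤ normalizer (U : Set G))
    (hOU : O ≤ centralizer (U : Set G)) (hodd : Odd (O.relIndex X)) {u : G} (hu : u ∈ ⁅U, X⁆)
    (huX : u ∈ centralizer (X : Set G)) : u = 1 := by
  classical
  obtain ⟨E, iE, iEf, φ, π, s⟩ := Cfsg.Lib.Qrc.exists_sec (M := ⊥) hU hXU (normalizer_eq_top (H := (⊥ : Subgroup G)) ▸ le_top)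
  set ψ := Cfsg.Lib.Qrc.modLift φ
  haveI : Fintype (↥X ⧸ φ.ker) := Fintype.ofFinite _
  have hle : O.subgroupOf X ≤ φ.ker := fun o ho => (s.ker_mem o.2).2 fun v hv =>
    mem_bot.2 (commutatorElement_eq_one_iff_mul_comm.2 (mem_centralizer_iff.1 (hOU (mem_subgroupOf.1 ho)) v hv))
  have hoddP : Odd (Fintype.card (↥X ⧸ φ.ker)) := by
    rw [← Nat.card_eq_fintype_card, ← index_eq_card]
    exact hodd.of_dvd_nat (index_dvd_of_le hle)
  let N : E →+ E := ∑ k : ↥X ⧸ φ.ker, (ψ k : E →+ E)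
  have hN : ∀ v, N v = ∑ k : ↥X ⧸ φ.ker, ψ k v := fun v => AddMonoidHom.finsetSum_apply _ _ _
  have himg : img φ (⊤ : Subgroup ↥X) ≤ N.ker := by
    refine (AddSubgroup.closure_le _).2 ?_
    rintro _ ⟨x, -, v, rfl⟩
    refine AddMonoidHom.mem_ker.2 ?_
    rw [dd_apply, map_sub, hN, hN, sub_eq_zero]
    exact Fintype.sum_equiv (Equiv.mulRight ((x : ↥X) : ↥X ⧸ φ.ker)) _ _ fun k =>
      (show ψ k (φ x v) = ψ (k * ((x : ↥X) : ↥X ⧸ φ.ker)) v by rw [phi_mul]; rfl)
  have hpre : ⁅U, X⁆ ≤ s.pre (img φ ⊤) := commutator_le.2 fun v hv x hx => by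
    refine ⟨s.comm_mem hx hv, ?_⟩
    rw [← show dd φ (⟨x, hx⟩ : ↥X) (π v) = π ⁅v, x⁆ from s.dd_eq ⟨x, hx⟩ hv]
    exact Cfsg.Lib.FFModule.dd_mem_img (mem_top _) _
  obtain ⟨huU, huimg⟩ := hpre hu
  have hfix : ∀ k : ↥X ⧸ φ.ker, ψ k (π u) = π u := by
    intro k
    induction k using QuotientGroup.induction_on with
    | H x =>
      show φ x (π u) = π u
      refine (s.fix_iff x huU).2 ?_
      rw [commutatorElement_eq_one_iff_mul_comm.2 (mem_centralizer_iff.1 huX x x.2).symm]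
      exact one_mem _
  have h0 : π u = 0 := by
    have h := AddMonoidHom.mem_ker.1 (himg huimg)
    rwa [hN, Finset.sum_congr rfl fun k _ => hfix k, Finset.sum_const, Finset.card_univ,
      odd_nsmul s.char hoddP] at h
  exact mem_bot.1 ((s.eq_zero u huU).1 h0)

/-- the odd quotient of a subgroup -/
abbrev quo (X : Subgroup G) : Type u := ↥X ⧸ Cfsg.pCore 2 ↥X

/-- the automorphism of the quotient induced by an automorphism -/
def toQuo (X : Subgroup G) : MulAut ↥X →* MulAut (quo X) where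
  toFun α := QuotientGroup.congr (Cfsg.pCore 2 ↥X) (Cfsg.pCore 2 ↥X) α
    (characteristic_iff_map_eq.1 inferInstance α)
  map_one' := MulEquiv.ext fun x => by
    induction x using QuotientGroup.induction_on with
    | H y => rfl
  map_mul' α β := MulEquiv.ext fun x => by
    induction x using QuotientGroup.induction_on with
    | H y => rfl

/-- the action on the quotient -/
def act (X : Subgroup G) : ↥(normalizer (X : Set G)) →* MulAut (quo X) :=
  (toQuo X).comp X.normalizerMonoidHom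

theorem act_apply (X : Subgroup G) (g : ↥(normalizer (X : Set G))) (x : ↥X) :
    act X g (x : quo X) =
      ((⟨(g : G) * x * (g : G)⁻¹, (mem_normalizer_iff.1 g.2 x).1 x.2⟩ : ↥X) : quo X) := rfl

theorem act_eq_one (X : Subgroup G) (g : ↥(normalizer (X : Set G))) :
    act X g = 1 ↔ ∀ x ∈ X, ⁅x, (g : G)⁆ ∈ Cfsg.pCoreOf 2 X := by
  have key : ∀ x : ↥X, act X g (x : quo X) = (x : quo X) ↔ ⁅(x : G), (g : G)⁆ ∈ Cfsg.pCoreOf 2 X := by
    intro x
    rw [act_apply, eq_comm, ← div_eq_one, ← QuotientGroup.mk_div, QuotientGroup.eq_one_iff, Cfsg.pCoreOf,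
      show ⁅(x : G), (g : G)⁆ = X.subtype (x / ⟨(g : G) * x * (g : G)⁻¹, (mem_normalizer_iff.1 g.2 x).1 x.2⟩) by
        rw [commutatorElement_def, map_div, div_eq_mul_inv]; simp [mul_assoc],
      mem_map_iff_mem X.subtype_injective]
  constructor
  · exact fun h x hx => (key ⟨x, hx⟩).1 (by rw [h]; rfl)
  · intro h
    refine MulEquiv.ext fun z => ?_
    induction z using QuotientGroup.induction_on with
    | H x => exact (key x).2 (h x x.2)

/-- the elements acting trivially on the quotient -/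
def cq (X : Subgroup G) : Subgroup G := (act X).ker.map (normalizer (X : Set G)).subtype

theorem mem_cq {X : Subgroup G} {g : G} :
    g ∈ cq X ↔ g ∈ normalizer (X : Set G) ∧ ∀ x ∈ X, ⁅x, g⁆ ∈ Cfsg.pCoreOf 2 X := by
  constructor
  · rintro ⟨h, hh, rfl⟩
    exact ⟨h.2, (act_eq_one X h).1 hh⟩
  · exact fun h => ⟨⟨g, h.1⟩, (act_eq_one X ⟨g, h.1⟩).2 h.2, rfl⟩

/-- the data attached to a member of `Ξ(G, T)` -/
structure Dat (T X : Subgroup G) (p : ℕ) : Prop where
  hp : p.Prime
  hp2 : p ≠ 2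
  hB : (Nat.card (quo X) = p ^ 2 ∧ IsMulCommutative (quo X) ∧ ∀ x : quo X, x ^ p = 1) ∨
      (Nat.card (quo X) = p ^ 3 ∧ ¬ IsMulCommutative (quo X))
  hodd : Cfsg.oddGenerated X = X
  hTX : T ≤ normalizer (X : Set G)
  hD : Cfsg.Lib.QTSolUniq.XData p X T (Cfsg.twoPhiCore X)

theorem exists_dat {T X : Subgroup G} (h : X ∈ Cfsg.Xi T) : ∃ p, Dat T X p := by
  obtain ⟨p', hp', -, hD⟩ := Cfsg.Lib.QTSolUniq.exists_data h
  obtain ⟨hodd, hTX, -, ⟨p, hp, hp2, hB⟩, -⟩ := h
  have hpp : p = p' := by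
    haveI := Fact.mk hp
    set π := QuotientGroup.mk' (Cfsg.pCore 2 ↥X)
    have h1 : ((frattini (quo X)).comap π).index = p ^ 2 := by
      rw [index_comap_of_surjective _ (QuotientGroup.mk'_surjective _),
        Cfsg.Lib.QTSolUniq.frattini_quotient_sq hB]
    have h2 := hD.index
    rw [show Cfsg.twoPhiCore X = ((frattini (quo X)).comap π).map X.subtype from rfl, relIndex] at h2
    rw [show ((((frattini (quo X)).comap π).map X.subtype).subgroupOf X) = (frattini (quo X)).comap π from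
      comap_map_eq_self_of_injective X.subtype_injective _, h1] at h2
    exact Nat.pow_left_injective two_ne_zero h2
  subst hpp
  exact ⟨p, hp, hp2, hB, hodd, hTX, hD⟩

variable {T X : Subgroup G} {p : ℕ} (d : Dat T X p)
include d

theorem Dat.card_quo : ∃ n, Nat.card (quo X) = p ^ n ∧ n ≤ 3 := by
  rcases d.hB with ⟨h, -, -⟩ | ⟨h, -⟩
  exacts [⟨2, h, by norm_num⟩, ⟨3, h, le_rfl⟩]

theorem Dat.pgroup : IsPGroup p (quo X) := by
  obtain ⟨n, h, -⟩ := d.card_quo
  exact IsPGroup.of_card h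

theorem Dat.relIndex_core : (Cfsg.pCoreOf 2 X).relIndex X = Nat.card (quo X) := by
  rw [relIndex, show (Cfsg.pCoreOf 2 X).subgroupOf X = Cfsg.pCore 2 ↥X from
    comap_map_eq_self_of_injective X.subtype_injective _, index_eq_card]

theorem Dat.odd_relIndex : Odd ((Cfsg.pCoreOf 2 X).relIndex X) := by
  obtain ⟨n, h, -⟩ := d.card_quo
  rw [d.relIndex_core, h]
  exact (d.hp.odd_of_ne_two d.hp2).pow

omit d in
theorem mem_phi {X : Subgroup G} {x : G} (hx : x ∈ X) :
    x ∈ Cfsg.twoPhiCore X ↔ ((⟨x, hx⟩ : ↥X) : quo X) ∈ frattini (quo X) := by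
  constructor
  · rintro ⟨y, hy, rfl⟩; exact hy
  · exact fun h => ⟨⟨x, hx⟩, h, rfl⟩

omit d in
theorem phi_normal {X : Subgroup G} : normalizer (X : Set G) ≤ normalizer (Cfsg.twoPhiCore X : Set G) := by
  refine Cfsg.Lib.JComp.le_normalizer_of_conj fun g hg x hx => ?_
  obtain ⟨y, hy, rfl⟩ := hx
  refine (mem_phi ((mem_normalizer_iff.1 hg y).1 y.2)).2 ?_
  have h : act X ⟨g, hg⟩ (y : quo X) ∈ (frattini (quo X)).map (act X ⟨g, hg⟩).toMonoidHom :=
    mem_map_of_mem _ hy
  rw [characteristic_iff_map_eq.1 frattini_characteristic] at h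
  exact h

/-- an element trivial modulo the Frattini subgroup with a power prime to `p` trivial is trivial -/
theorem Dat.stab_eq_one (g : ↥(normalizer (X : Set G))) (hg : ∀ x ∈ X, ⁅x, (g : G)⁆ ∈ Cfsg.twoPhiCore X)
    {k : ℕ} (hk : k.Coprime p) (h1 : act X g ^ k = 1) : act X g = 1 := by
  haveI := Fact.mk d.hp
  set Φ := frattini (quo X)
  let S : Subgroup (MulAut (quo X)) :=
    { carrier := {α | ∀ x, α x * x⁻¹ ∈ Φ}
      one_mem' := fun x => by show x * x⁻¹ ∈ Φ; rw [mul_inv_cancel]; exact one_mem _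
      mul_mem' := fun {α β} ha hb x => by
        have h := mul_mem (ha (β x)) (hb x)
        rwa [mul_assoc, inv_mul_cancel_left] at h
      inv_mem' := fun {α} ha x => by
        have h := inv_mem (ha (α⁻¹ x))
        rwa [show α (α⁻¹ x) = x from α.apply_symm_apply x, _root_.mul_inv_rev, inv_inv] at h }
  have hmem : act X g ∈ S := fun z => by
    induction z using QuotientGroup.induction_on with
    | H x =>
      have h := inv_mem ((mem_phi (x := ⁅(x : G), (g : G)⁆)
        ((d.hD.le) (hg x x.2))).1 (hg x x.2))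
      rw [act_apply, ← QuotientGroup.mk_inv, ← QuotientGroup.mk_mul]
      rw [← QuotientGroup.mk_inv] at h
      convert h using 2
      refine Subtype.ext ?_
      show (g : G) * x * (g : G)⁻¹ * (x : G)⁻¹ = ⁅(x : G), (g : G)⁆⁻¹
      rw [commutatorElement_def]; group
  obtain ⟨n, hn, -⟩ := d.card_quo
  have hdvd := Cfsg.Lib.PGroups.card_stabilizing_dvd hn (r := 2)
    (Cfsg.Lib.QTSolUniq.frattini_quotient_sq d.hB) S fun α hα => hα
  have h2 : orderOf (act X g) ∣ p ^ (2 * (n - 2)) := (orderOf_dvd_natCard S hmem).trans hdvd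
  exact orderOf_eq_one_iff.1 (Nat.eq_one_of_dvd_coprimes (hk.pow_right _)
    (orderOf_dvd_of_pow_eq_one h1) h2)

end Cfsg.Lib.QTSolv
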