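import Cfsg.Agent.QTKE.Solv.Plane
import Cfsg.Agent.PGroups.Basic
import Cfsg.Agent.PLocal.FFModule.Basic

/-!
A solvable uniqueness group on a module with a small cubic parameter: the prime is five and two lines carry
the module.
-/

set_option autoImplicit false
set_option linter.unusedSectionVars false
set_option linter.style.haveILetI false

namespace Cfsg.Lib.QTSolv

open Subgroup
open Cfsg.Lib.FFSLTwo (cj mem_cj fixA dd dd_apply dd_eq_zero phi_mul phi_one phi_inv_cancel phi_cancel_inv mem_fixA_cj)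
open scoped commutatorElement

universe u v

variable {P : Type u} [Group P] [Finite P] {E : Type v} [AddCommGroup E] [Finite E]

/-- the stabiliser of a vector -/
def stab (φ : P →* AddMonoid.End E) (v : E) : Subgroup P where
  carrier := {g | φ g v = v}
  one_mem' := phi_one v
  mul_mem' := fun {a b} ha hb => by
    show φ (a * b) v = v
    rw [phi_mul, show φ b v = v from hb, show φ a v = v from ha]
  inv_mem' := fun {a} ha => by
    show φ a⁻¹ v = v
    conv_lhs => rw [← (show φ a v = v from ha)]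
    exact phi_inv_cancel a v

/-- the configuration -/
structure Conf (φ : P →* AddMonoid.End E) (p : ℕ) (Q Φ A : Subgroup P) : Prop where
  hinj : Function.Injective φ
  hchar : ∀ v : E, 2 • v = 0
  hp : p.Prime
  h5 : 5 ≤ p
  hQn : Q.Normal
  hΦn : Φ.Normal
  hQp : IsPGroup p Q
  hle : Φ ≤ Q
  hidx : Φ.relIndex Q = p ^ 2
  hexp : ∀ x ∈ Q, x ^ p ∈ Φ
  hcomm : ∀ x ∈ Q, ∀ y ∈ Q, ⁅x, y⁆ ∈ Φ
  hsmall : ¬ p ^ 4 ∣ Nat.card Q
  hnc : Φ ≠ ⊥ → ∃ x ∈ Q, ∃ y ∈ Q, x * y ≠ y * x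
  hfix : ∀ v, (∀ x ∈ Q, φ x v = v) → v = 0
  hA : Cfsg.IsElementaryAbelian 2 A
  hAne : A ≠ ⊥
  hfaith : ∀ a ∈ A, (∀ x ∈ Q, ⁅x, a⁆ ∈ Φ) → a = 1
  hbudget : (fixA φ A).index ≤ Nat.card A ^ 2

variable {φ : P →* AddMonoid.End E} {p : ℕ} {Q Φ A : Subgroup P} (c : Conf φ p Q Φ A)
include c

theorem Conf.p2 : p ≠ 2 := by have := c.h5; omega

theorem Conf.p_odd : Odd p := c.hp.odd_of_ne_two c.p2

theorem Conf.sq {a : P} (ha : a ∈ A) : a * a = 1 := by rw [← pow_two]; exact c.hA.2 a ha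

theorem Conf.conj_Q {a x : P} (ha : a ∈ A) (hx : x ∈ Q) : a * x * a ∈ Q := by
  have h := c.hQn.conj_mem x hx a
  rwa [inv_eq_of_mul_eq_one_right (c.sq ha)] at h

theorem Conf.sign : Nat.card A ≤ 4 ∧
    ((∃ a ∈ A, ∀ x ∈ Q, x * (a * x * a) ∈ Φ) ∨ Nat.card A ≤ 2) := by
  haveI := Fact.mk c.hp
  haveI := c.hΦn
  set mk := QuotientGroup.mk' Φ
  have hQe : Cfsg.IsElementaryAbelian p (Q.map mk) := by
    refine ⟨⟨⟨?_⟩⟩, ?_⟩
    · rintro ⟨_, x, hx, rfl⟩ ⟨_, y, hy, rfl⟩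
      refine Subtype.ext ?_
      show mk x * mk y = mk y * mk x
      rw [← commutatorElement_eq_one_iff_mul_comm, ← map_commutatorElement, QuotientGroup.mk'_apply,
        QuotientGroup.eq_one_iff]
      exact c.hcomm x hx y hy
    · rintro _ ⟨x, hx, rfl⟩
      rw [← map_pow, QuotientGroup.mk'_apply, QuotientGroup.eq_one_iff]
      exact c.hexp x hx
  have hcard : Nat.card (Q.map mk) = p ^ 2 := by
    let f : Q →* P ⧸ Φ := mk.comp Q.subtype
    have hr : f.range = Q.map mk := by rw [MonoidHom.range_comp, range_subtype]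
    rw [← hr, ← index_ker, ← c.hidx, relIndex]
    congr 1
    ext x
    exact (QuotientGroup.eq_one_iff (x : P)).trans mem_subgroupOf.symm
  have hAe : Cfsg.IsElementaryAbelian 2 (A.map mk) := by
    refine ⟨⟨⟨?_⟩⟩, ?_⟩
    · rintro ⟨_, x, hx, rfl⟩ ⟨_, y, hy, rfl⟩
      refine Subtype.ext ?_
      show mk x * mk y = mk y * mk x
      rw [← map_mul, ← map_mul, Cfsg.Lib.ElemToolkit.comm_of c.hA.1 hx hy]
    · rintro _ ⟨x, hx, rfl⟩
      rw [← map_pow, c.hA.2 x hx, map_one]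
  have hcA : Nat.card (A.map mk) = Nat.card A := by
    let f : A →* P ⧸ Φ := mk.comp A.subtype
    have hr : f.range = A.map mk := by rw [MonoidHom.range_comp, range_subtype]
    have hinj : f.ker = ⊥ := (eq_bot_iff_forall _).2 fun a ha => Subtype.ext (eq_one_of_sq c.hp c.p2 ?_ (c.sq a.2))
    · rw [← hr, ← index_ker, hinj, index_bot]
    · -- an element of a `p`-group of order dividing two
      have h1 : (a : P) ∈ Φ := (QuotientGroup.eq_one_iff _).1 ha
      obtain ⟨k, hk⟩ := c.hQp ⟨a, c.hle h1⟩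
      have hk' : (a : P) ^ p ^ k = 1 := congrArg Subtype.val hk
      obtain ⟨m, hm⟩ : Odd (p ^ k) := c.p_odd.pow
      rw [hm, pow_succ, pow_mul, c.hA.2 _ a.2, one_pow, one_mul] at hk'
      rw [hk', one_pow]
  obtain ⟨h4, h⟩ := sign_plane c.hp c.p2 hQe hcard hAe
    (by rintro _ ⟨a, ha, rfl⟩ _ ⟨x, hx, rfl⟩; exact ⟨a * x * a, c.conj_Q ha hx, by rw [map_mul, map_mul]⟩)
    (by
      rintro _ ⟨a, ha, rfl⟩ hc
      rw [c.hfaith a ha fun x hx => ?_, map_one]
      have h := hc _ (mem_map_of_mem mk hx)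
      rw [← map_mul, ← map_mul] at h
      have e : mk x * mk a = mk a * mk x := by
        calc mk x * mk a = mk (a * x * a) * mk a := by rw [h]
          _ = mk a * mk x := by rw [← map_mul, ← map_mul, mul_assoc _ a a, c.sq ha, mul_one]
      rw [← QuotientGroup.eq_one_iff, ← QuotientGroup.mk'_apply, map_commutatorElement]
      exact commutatorElement_eq_one_iff_mul_comm.2 e)
  rw [hcA] at h4 h
  refine ⟨h4, h.imp_left ?_⟩
  rintro ⟨_, ⟨a, ha, rfl⟩, hinv⟩
  refine ⟨a, ha, fun x hx => ?_⟩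
  have h := hinv _ (mem_map_of_mem mk hx)
  rw [← QuotientGroup.eq_one_iff, ← QuotientGroup.mk'_apply, map_mul, map_mul, map_mul, h, mul_inv_cancel]

theorem Conf.budget {a y : P} (ha : a ∈ A) (hay : a * y * a = y⁻¹) (hy : Odd (orderOf y)) :
    Nat.card (rg φ y) ≤ (Nat.card A ^ 2) ^ 2 :=
  (card_rg_le c.hchar (c.sq ha) hay hy ha).trans (Nat.pow_le_pow_left c.hbudget 2)

theorem Conf.budget_le {a y : P} (ha : a ∈ A) (hay : a * y * a = y⁻¹) (hy : Odd (orderOf y)) :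
    Nat.card (rg φ y) ≤ 256 :=
  (c.budget ha hay hy).trans (by
    calc (Nat.card A ^ 2) ^ 2 ≤ (4 ^ 2) ^ 2 := Nat.pow_le_pow_left (Nat.pow_le_pow_left c.sign.1 2) 2
      _ = 256 := by norm_num)

theorem Conf.odd_order {x : P} (hx : x ∈ Q) : Odd (orderOf x) := by
  haveI := Fact.mk c.hp
  obtain ⟨k, hk⟩ := IsPGroup.iff_orderOf.1 c.hQp ⟨x, hx⟩
  rw [← Subgroup.orderOf_mk x hx, hk]
  exact c.p_odd.pow

theorem Conf.step {S S' : Subgroup P} (hS' : S' ≤ Q) (hlt : S < S') : p * Nat.card S ≤ Nat.card S' := by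
  haveI := Fact.mk c.hp
  obtain ⟨j, hj⟩ := (c.hQp.to_le hS').exists_card_eq
  obtain ⟨i, hi⟩ := (c.hQp.to_le (hlt.le.trans hS')).exists_card_eq
  have hne : Nat.card S < Nat.card S' := lt_of_not_ge fun h => hlt.ne (eq_of_le_of_card_ge hlt.le h)
  rw [hi, hj] at hne ⊢
  rw [← pow_succ']
  exact Nat.pow_le_pow_right c.hp.pos ((Nat.pow_lt_pow_iff_right c.hp.one_lt).1 hne)

theorem Conf.card_phi (hΦ : Φ ≠ ⊥) : Nat.card Φ = p ∧ Nat.card Q = p ^ 3 := by
  haveI := Fact.mk c.hp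
  have h : Nat.card Φ * Φ.relIndex Q = Nat.card Q := by
    rw [relIndex, ← Nat.card_congr (subgroupOfEquivOfLe c.hle).toEquiv, card_mul_index]
  obtain ⟨i, hi⟩ := (c.hQp.to_le c.hle).exists_card_eq
  rw [c.hidx, hi, ← pow_add] at h
  have hi0 : i ≠ 0 := fun h0 => hΦ (Subgroup.card_eq_one.1 (by rw [hi, h0, pow_zero]))
  have hi1 : ¬ 2 ≤ i := fun h2 => c.hsmall (h ▸ pow_dvd_pow p (by omega))
  have : i = 1 := by omega
  subst this
  exact ⟨by rw [hi, pow_one], h.symm⟩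

theorem Conf.phi_central (hΦ : Φ ≠ ⊥) {z x : P} (hz : z ∈ Φ) (hx : x ∈ Q) : Commute z x := by
  haveI := Fact.mk c.hp
  haveI := c.hΦn
  have h := Cfsg.Lib.PGroups.le_center_of_card_eq_prime c.hQp (N := Φ.subgroupOf Q)
    ((Nat.card_congr (subgroupOfEquivOfLe c.hle).toEquiv).trans (c.card_phi hΦ).1)
    (mem_subgroupOf.2 hz : (⟨z, c.hle hz⟩ : Q) ∈ Φ.subgroupOf Q)
  exact (congrArg Subtype.val (mem_center_iff.1 h ⟨x, hx⟩)).symm

theorem Conf.phi_gen (hΦ : Φ ≠ ⊥) {z : P} (hz : z ∈ Φ) (h1 : z ≠ 1) : zpowers z = Φ := by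
  refine eq_of_le_of_card_ge (zpowers_le.2 hz) ?_
  rw [(c.card_phi hΦ).1, Nat.card_zpowers]
  have hd : orderOf z ∣ p := (c.card_phi hΦ).1 ▸ Subgroup.orderOf_dvd_natCard _ hz
  rcases (Nat.dvd_prime c.hp).1 hd with h | h
  · exact absurd (orderOf_eq_one_iff.1 h) h1
  · exact h.ge

theorem Conf.phi_pow (hΦ : Φ ≠ ⊥) {z : P} (hz : z ∈ Φ) : z ^ p = 1 :=
  orderOf_dvd_iff_pow_eq_one.1 ((c.card_phi hΦ).1 ▸ Subgroup.orderOf_dvd_natCard _ hz)

/-- a line of the extraspecial group carries a big part of the module -/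
theorem Conf.lines (hΦ : Φ ≠ ⊥) {y : P} (hy : y ∈ Q) (hyΦ : y ∉ Φ) (hyp : y ^ p = 1) :
    ∃ w ∈ Φ, w ≠ 1 ∧ ∀ i : ℕ, 8 ≤ Nat.card ↥(fx φ (y * w ^ i) ⊓ rg φ w) := by
  haveI := Fact.mk c.hp
  obtain ⟨x, hx, hxy⟩ : ∃ x ∈ Q, ⁅x, y⁆ ≠ 1 := by
    by_contra hcon
    push Not at hcon
    obtain ⟨x₁, hx₁, x₂, hx₂, hne⟩ := c.hnc hΦ
    let Z : Subgroup P :=
      { carrier := {q | q ∈ Q ∧ ∀ x ∈ Q, Commute q x}
        one_mem' := ⟨one_mem _, fun x _ => Commute.one_left x⟩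
        mul_mem' := fun {a b} ha hb => ⟨mul_mem ha.1 hb.1, fun x hx => (ha.2 x hx).mul_left (hb.2 x hx)⟩
        inv_mem' := fun {a} ha => ⟨inv_mem ha.1, fun x hx => (ha.2 x hx).inv_left⟩ }
    have hyZ : y ∈ Z := ⟨hy, fun x hx => (commutatorElement_eq_one_iff_mul_comm.1 (hcon x hx)).symm⟩
    have hΦZ : Φ ≤ Z := fun z hz => ⟨c.hle hz, fun x hx => c.phi_central hΦ hz hx⟩
    have hx₁Z : x₁ ∉ Z := fun h => hne (h.2 x₂ hx₂)
    have hlt₁ : Φ < Z := lt_of_le_not_ge hΦZ fun h => hyΦ (h hyZ)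
    have hlt₂ : Z < Z ⊔ zpowers x₁ := lt_of_le_not_ge le_sup_left fun h => hx₁Z (h (mem_sup_right (mem_zpowers _)))
    have hle₂ : Z ⊔ zpowers x₁ ≤ Q := sup_le (fun q hq => hq.1) (zpowers_le.2 hx₁)
    have h1 := c.step (fun q (hq : q ∈ Q ∧ _) => hq.1) hlt₁
    have h2 := c.step hle₂ hlt₂
    rw [(c.card_phi hΦ).1] at h1
    have h3 : Q = Z ⊔ zpowers x₁ := (eq_of_le_of_card_ge hle₂ (by
      rw [(c.card_phi hΦ).2, pow_succ', pow_two]
      exact (Nat.mul_le_mul_left p h1).trans h2)).symm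
    have hall : Q ≤ centralizer ({x₁} : Set P) := h3.trans_le (sup_le
      (fun q hq => mem_centralizer_singleton_iff.2 (hq.2 x₁ hx₁).eq)
      (zpowers_le.2 (mem_centralizer_singleton_iff.2 rfl)))
    exact hne (mem_centralizer_singleton_iff.1 (hall hx₂)).symm
  set w := ⁅x, y⁆ with hw
  have hwΦ : w ∈ Φ := c.hcomm x hx y hy
  refine ⟨w, hwΦ, hxy, ?_⟩
  set W := rg φ w
  have hwp : w ^ p = 1 := c.phi_pow hΦ hwΦ
  have hwy : Commute w y := c.phi_central hΦ hwΦ hy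
  have hwx : Commute w x := c.phi_central hΦ hwΦ hx
  have hWst : ∀ h, Commute w h → ∀ v ∈ W, φ h v ∈ W := by
    rintro h hh _ ⟨v, rfl⟩
    exact ⟨φ h v, by show dd φ w (φ h v) = φ h (dd φ w v); rw [dd_apply, dd_apply, map_sub, ← phi_mul, ← phi_mul, hh.eq]⟩
  have hWfree : ∀ v ∈ W, φ w v = v → v = 0 := fun v hv h => rg_free c.hchar (c.odd_order (c.hle hwΦ)) hv h
  have hconj : ∀ n : ℕ, x ^ n * y = y * w ^ n * x ^ n := by
    intro n
    induction n with
    | zero => simp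
    | succ n ih =>
      have e : x * y = y * w * x := by rw [← hwy.eq, hw, commutatorElement_def]; group
      calc x ^ (n + 1) * y = x * (x ^ n * y) := by rw [pow_succ', mul_assoc]
        _ = (x * y) * w ^ n * x ^ n := by rw [ih]; group
        _ = y * w * (x * w ^ n) * x ^ n := by rw [e]; group
        _ = y * w * (w ^ n * x) * x ^ n := by rw [(hwx.pow_left n).eq]
        _ = _ := by rw [pow_succ' w, pow_succ' x]; group
  have hcard : ∀ i, Nat.card ↥(fx φ (y * w ^ i) ⊓ W) = Nat.card ↥(fx φ y ⊓ W) := by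
    intro i
    refine (Nat.card_congr (?_ : ↥(fx φ y ⊓ W) ≃ ↥(fx φ (y * w ^ i) ⊓ W))).symm
    refine
      { toFun := fun v => ⟨φ (x ^ i) v, ?_, hWst _ (hwx.pow_right i) _ v.2.2⟩
        invFun := fun v => ⟨φ (x ^ i)⁻¹ v, ?_, hWst _ (hwx.pow_right i).inv_right _ v.2.2⟩
        left_inv := fun v => Subtype.ext (phi_inv_cancel _ _)
        right_inv := fun v => Subtype.ext (phi_cancel_inv _ _) }
    · refine mem_fx.2 ?_
      rw [← phi_mul, ← hconj, phi_mul, mem_fx.1 v.2.1]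
    · refine mem_fx.2 ?_
      rw [← phi_mul, show y * (x ^ i)⁻¹ = (x ^ i)⁻¹ * (y * w ^ i) by
        rw [eq_inv_mul_iff_mul_eq, ← mul_assoc, hconj, mul_inv_cancel_right], phi_mul, mem_fx.1 v.2.1]
  have hne0 : fx φ y ⊓ W ≠ ⊥ := by
    intro h0
    refine hxy (c.hinj (DFunLike.ext (F := AddMonoid.End E) _ _ fun v₀ => ?_))
    rw [phi_one, ← dd_eq_zero]
    set v := dd φ w v₀
    have hv : v ∈ W := ⟨v₀, rfl⟩
    have h := spanning c.hchar c.hp c.p2 hwy.symm hyp hwp (φ := φ) (v := v) fun u _ huw hS => by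
      refine hWfree u (hS W hv fun g hg => hWst g ?_) (mem_fx.1 huw)
      have hle : zpowers y ⊔ zpowers w ≤ centralizer ({w} : Set P) := sup_le
        (zpowers_le.2 (mem_centralizer_singleton_iff.2 hwy.eq.symm))
        (zpowers_le.2 (mem_centralizer_singleton_iff.2 rfl))
      exact (mem_centralizer_singleton_iff.1 (hle hg)).symm
    rw [h]
    have e1 : av φ p w v = 0 :=
      hWfree _ (av_mem_of_stable p (hWst w (Commute.refl w)) hv) (mem_fx.1 (av_mem p hwp v))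
    have e2 : ∀ i, av φ p (y * w ^ i) v = 0 := fun i => by
      have hm : av φ p (y * w ^ i) v ∈ fx φ (y * w ^ i) ⊓ W :=
        ⟨av_mem p (by rw [(hwy.symm.pow_right i).mul_pow, hyp, ← pow_mul, mul_comm, pow_mul, hwp, one_pow, mul_one]) v,
          av_mem_of_stable p (hWst _ (hwy.mul_right ((Commute.refl w).pow_right i))) hv⟩
      have hb : fx φ (y * w ^ i) ⊓ W = ⊥ := by
        rw [← AddSubgroup.card_eq_one, hcard, h0, AddSubgroup.card_bot]
      rwa [hb, AddSubgroup.mem_bot] at hm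
    rw [e1, zero_add]
    exact Finset.sum_eq_zero fun i _ => e2 i
  intro i
  rw [hcard]
  refine eight_le c.hchar (φ := φ) (y := w) ?_ c.hp c.h5 hne0 ?_ fun v hv h => hWfree v hv.2 h
  · exact orderOf_eq_prime hwp hxy
  · intro v hv
    refine ⟨mem_fx.2 ?_, hWst w (Commute.refl w) v hv.2⟩
    rw [← phi_mul, ← hwy.eq, phi_mul, mem_fx.1 hv.1]

/-- the extraspecial case is impossible -/
theorem Conf.phi_bot : Φ = ⊥ := by
  haveI := Fact.mk c.hp
  haveI := c.hΦn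
  by_contra hΦ
  obtain ⟨a, ha, ha1⟩ := (Subgroup.bot_or_exists_ne_one A).resolve_left c.hAne
  have haa := c.sq ha
  have hai : a⁻¹ = a := inv_eq_of_mul_eq_one_right haa
  have hconjΦ : ∀ z ∈ Φ, a * z * a ∈ Φ := fun z hz => by
    have h := c.hΦn.conj_mem z hz a; rwa [hai] at h
  -- three lines in a moved space
  have three : ∀ {y w v : P}, y ∈ Q → w ∈ Φ → w ≠ 1 → y ^ p = 1 → (∀ i, 8 ≤ Nat.card ↥(fx φ (y * w ^ i) ⊓ rg φ w)) →
      v ∈ Q → Commute v y → (∀ i : Fin 3, ∀ u, u ∈ fx φ (y * w ^ (i.val + 1)) → φ v u = u → φ w u = u) →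
      512 ≤ Nat.card (rg φ v) := by
    intro y w v hy hw hw1 hyp h8 hv hvy hfree
    have hwc : ∀ {q}, q ∈ Q → Commute w q := fun hq => c.phi_central hΦ hw hq
    have hWst : ∀ h ∈ Q, ∀ u ∈ rg φ w, φ h u ∈ rg φ w := by
      rintro h hh _ ⟨u, rfl⟩
      exact ⟨φ h u, by
        show dd φ w (φ h u) = φ h (dd φ w u)
        rw [dd_apply, dd_apply, map_sub, ← phi_mul, ← phi_mul, (hwc hh).eq]⟩
    have h := prod_card_le c.hchar c.p_odd (fun i : Fin 3 => y * w ^ (i.val + 1))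
      (fun i => by rw [((hwc hy).symm.pow_right _).mul_pow, hyp, ← pow_mul, mul_comm, pow_mul,
        c.phi_pow hΦ hw, one_pow, mul_one])
      (fun i => fx φ (y * w ^ (i.val + 1)) ⊓ rg φ w) (fun i => inf_le_left)
      (fun i j => by
        refine Commute.mul_right ?_ ?_
        · exact (Commute.refl y).mul_left ((hwc hy).pow_left _)
        · exact ((hwc hy).symm.pow_right _).mul_left ((Commute.refl w).pow_pow _ _))
      (rg φ w) (fun i => inf_le_right) (fun i u hu => hWst _ (mul_mem hy (pow_mem (c.hle hw) _)) u hu) (φ := φ)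
      (fun i j hij u hu h1 h2 => by
        refine rg_free c.hchar (c.odd_order (c.hle hw)) hu ?_
        have hg1 : y * w ^ (i.val + 1) ∈ stab φ u := mem_fx.1 h1
        have hg2 : y * w ^ (j.val + 1) ∈ stab φ u := mem_fx.1 h2
        have hg3 : (w ^ (i.val + 1))⁻¹ * w ^ (j.val + 1) ∈ stab φ u := by
          have := mul_mem (inv_mem hg1) hg2
          rwa [_root_.mul_inv_rev, mul_assoc, inv_mul_cancel_left] at this
        have hne : (w ^ (i.val + 1))⁻¹ * w ^ (j.val + 1) ≠ 1 := fun h0 => by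
          rw [inv_mul_eq_one, pow_inj_mod, orderOf_eq_prime (c.phi_pow hΦ hw) hw1,
            Nat.mod_eq_of_lt (by have := c.h5; omega), Nat.mod_eq_of_lt (by have := c.h5; omega)] at h0
          exact hij (Fin.ext (by omega))
        have hgen := c.phi_gen hΦ (mul_mem (inv_mem (pow_mem hw _)) (pow_mem hw _)) hne
        exact (zpowers_le.2 hg3) (hgen.ge hw))
      (w := v) (fun i u hu => ⟨mem_fx.2 (by
          rw [← phi_mul, ← (hvy.mul_right ((hwc hv).symm.pow_right _)).eq, phi_mul, mem_fx.1 hu.1]),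
        hWst v hv u hu.2⟩)
      (fun i u hu h => rg_free c.hchar (c.odd_order (c.hle hw)) hu.2 (hfree i u hu.1 h))
    refine le_trans ?_ h
    rw [Fin.prod_univ_three]
    exact (show 512 = 8 * 8 * 8 by norm_num).le.trans (Nat.mul_le_mul (Nat.mul_le_mul (h8 _) (h8 _)) (h8 _))
  rcases sign_of_card c.hp c.p2 (c.card_phi hΦ).1 haa hconjΦ with hcz | hiz
  · -- `a` centralises the centre
    obtain ⟨q, hq, hqa⟩ : ∃ q ∈ Q, q⁻¹ * (a * q * a) ∉ Φ := by
      by_contra hcon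
      push Not at hcon
      refine ha1 (c.hfaith a ha fun q hq => ?_)
      have h := c.hΦn.conj_mem _ (inv_mem (hcon q hq)) q
      rw [commutatorElement_def, hai]
      rw [_root_.mul_inv_rev, inv_inv, _root_.mul_inv_rev, _root_.mul_inv_rev, hai] at h
      simpa [mul_assoc] using h
    set y := q⁻¹ * (a * q * a) with hydef
    have hy : y ∈ Q := mul_mem (inv_mem hq) (c.conj_Q ha hq)
    have hay : a * y * a = y⁻¹ := by
      rw [hydef, _root_.mul_inv_rev, inv_inv, _root_.mul_inv_rev, _root_.mul_inv_rev, hai,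
        show a * (q⁻¹ * (a * q * a)) * a = a * q⁻¹ * a * q * (a * a) by group, haa]
      group
    have hyp : y ^ p = 1 := by
      refine eq_one_of_sq c.hp c.p2 (c.phi_pow hΦ (c.hexp y hy)) ?_
      have h1 := hcz _ (c.hexp y hy)
      have h2 : a * y ^ p * a = (y ^ p)⁻¹ := by
        rw [← inv_pow, ← hay]
        conv_rhs => arg 1; arg 2; rw [← hai]
        rw [conj_pow, hai]
      rw [h1] at h2
      conv_lhs => arg 1; rw [h2]
      exact inv_mul_cancel _
    obtain ⟨w, hw, hw1, h8⟩ := c.lines hΦ hy hqa hyp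
    have h512 := three hy hw hw1 hyp h8 hy (Commute.refl y) fun i u hu hyu => by
      have hg : w ^ (i.val + 1) ∈ stab φ u := by
        have := mul_mem (inv_mem (show y ∈ stab φ u from hyu)) (show y * w ^ (i.val + 1) ∈ stab φ u from mem_fx.1 hu)
        rwa [inv_mul_cancel_left] at this
      have hne : w ^ (i.val + 1) ≠ 1 := fun h0 => by
        have := Nat.le_of_dvd (by omega) (orderOf_dvd_of_pow_eq_one h0)
        rw [orderOf_eq_prime (c.phi_pow hΦ hw) hw1] at this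
        have := c.h5; omega
      exact (zpowers_le.2 hg) ((c.phi_gen hΦ (pow_mem hw _) hne).ge hw)
    have := c.budget_le ha hay (c.odd_order hy)
    omega
  · -- `a` inverts the centre
    obtain ⟨q, hq, hqa⟩ : ∃ q ∈ Q, q * (a * q * a) ∉ Φ := by
      by_contra hcon
      push Not at hcon
      obtain ⟨x₁, hx₁, x₂, hx₂, hne⟩ := c.hnc hΦ
      have hform : ∀ x ∈ Q, ∃ z ∈ Φ, a * x * a = x⁻¹ * z := fun x hx =>
        ⟨x * (a * x * a), hcon x hx, by group⟩
      obtain ⟨z₁, hz₁, e₁⟩ := hform x₁ hx₁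
      obtain ⟨z₂, hz₂, e₂⟩ := hform x₂ hx₂
      set k := ⁅x₁, x₂⁆ with hk
      have hkΦ : k ∈ Φ := c.hcomm x₁ hx₁ x₂ hx₂
      have hq₁ : x₁⁻¹ ∈ Q := inv_mem hx₁
      have hq₂ : x₂⁻¹ ∈ Q := inv_mem hx₂
      have hfix : a * k * a = k := by
        have e3 : a * k * a = ⁅a * x₁ * a, a * x₂ * a⁆ := by
          rw [hk, show a * ⁅x₁, x₂⁆ * a = a * ⁅x₁, x₂⁆ * a⁻¹ by rw [hai],
            show a * x₁ * a = a * x₁ * a⁻¹ by rw [hai], show a * x₂ * a = a * x₂ * a⁻¹ by rw [hai]]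
          simp only [commutatorElement_def]; group
        have e4 : ⁅x₁⁻¹ * z₁, x₂⁻¹ * z₂⁆ = ⁅x₁⁻¹, x₂⁻¹⁆ := by
          have c1 : Commute z₁ (x₂⁻¹ * z₂) :=
            (c.phi_central hΦ hz₁ hq₂).mul_right (c.phi_central hΦ hz₁ (c.hle hz₂))
          have c2 : Commute z₂ x₁⁻¹ := c.phi_central hΦ hz₂ hq₁
          calc ⁅x₁⁻¹ * z₁, x₂⁻¹ * z₂⁆ = x₁⁻¹ * (z₁ * (x₂⁻¹ * z₂)) * z₁⁻¹ * x₁⁻¹⁻¹ * (x₂⁻¹ * z₂)⁻¹ := by
                rw [commutatorElement_def]; group
            _ = x₁⁻¹ * x₂⁻¹ * (z₂ * x₁⁻¹⁻¹) * (x₂⁻¹ * z₂)⁻¹ := by rw [c1.eq]; group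
            _ = x₁⁻¹ * x₂⁻¹ * (x₁⁻¹⁻¹ * z₂) * (x₂⁻¹ * z₂)⁻¹ := by rw [c2.inv_right.eq]
            _ = _ := by rw [commutatorElement_def]; group
        rw [e3, e₁, e₂, e4, show ⁅x₁⁻¹, x₂⁻¹⁆ = (x₂ * x₁)⁻¹ * k * (x₂ * x₁) by
          rw [hk]; simp only [commutatorElement_def]; group,
          mul_assoc, (c.phi_central hΦ hkΦ (mul_mem hx₂ hx₁)).eq, inv_mul_cancel_left]
      rw [hiz k hkΦ] at hfix
      refine hne (commutatorElement_eq_one_iff_mul_comm.1 (eq_one_of_sq c.hp c.p2 (c.phi_pow hΦ hkΦ) ?_))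
      show k * k = 1
      conv_lhs => arg 1; rw [← hfix]
      exact inv_mul_cancel k
    -- make the fixed coset exact
    set x₀ := q * (a * q * a) with hx₀def
    have hx₀ : x₀ ∈ Q := mul_mem hq (c.conj_Q ha hq)
    set n := x₀⁻¹ * (a * x₀ * a) with hndef
    have hn : n ∈ Φ := by
      rw [← QuotientGroup.eq_one_iff, hndef, ← QuotientGroup.mk'_apply, map_mul, map_inv, inv_mul_eq_one]
      set mk := QuotientGroup.mk' Φ
      have hcm : mk q * mk (a * q * a) = mk (a * q * a) * mk q := by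
        rw [← commutatorElement_eq_one_iff_mul_comm, ← map_commutatorElement, QuotientGroup.mk'_apply,
          QuotientGroup.eq_one_iff]
        exact c.hcomm q hq _ (c.conj_Q ha hq)
      rw [hx₀def, map_mul, hcm, ← map_mul]
      congr 1
      rw [show a * (q * (a * q * a)) * a = a * q * a * q * (a * a) by group, haa, mul_one]
    set m := n ^ ((p + 1) / 2) with hmdef
    have hm : m * m = n := by
      obtain ⟨k, hk⟩ := c.p_odd
      rw [hmdef, ← pow_add, show (p + 1) / 2 + (p + 1) / 2 = p + 1 by omega, pow_succ, c.phi_pow hΦ hn, one_mul]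
    have hmΦ : m ∈ Φ := pow_mem hn _
    set y := x₀ * m with hydef
    have hy : y ∈ Q := mul_mem hx₀ (c.hle hmΦ)
    have hay : a * y * a = y := by
      calc a * y * a = (a * x₀ * a) * (a * m * a) := by
            rw [hydef, show a * x₀ * a * (a * m * a) = a * x₀ * (a * a) * m * a by group, haa]; group
        _ = x₀ * n * m⁻¹ := by rw [hiz m hmΦ, hndef]; group
        _ = y := by rw [← hm, hydef]; group
    have hyp : y ^ p = 1 := by
      refine eq_one_of_sq c.hp c.p2 (c.phi_pow hΦ (c.hexp y hy)) ?_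
      have h1 := hiz _ (c.hexp y hy)
      have h2 : a * y ^ p * a = y ^ p := by
        conv_rhs => rw [← hay]
        conv_rhs => arg 1; arg 2; rw [← hai]
        rw [conj_pow, hai]
      rw [h2] at h1
      conv_lhs => arg 1; rw [h1]
      exact inv_mul_cancel _
    have hyΦ : y ∉ Φ := fun h => hqa (by simpa [hydef] using mul_mem h (inv_mem hmΦ))
    obtain ⟨w, hw, hw1, h8⟩ := c.lines hΦ hy hyΦ hyp
    have h512 := three hy hw hw1 hyp h8 (c.hle hw) (c.phi_central hΦ hw hy) fun i u hu hwu => hwu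
    have := c.budget_le ha (hiz w hw) (c.odd_order (c.hle hw))
    omega

/-- a line carrying part of the module -/
def Line (φ : P →* AddMonoid.End E) (p : ℕ) (Q l : Subgroup P) : Prop :=
  l ≤ Q ∧ Nat.card l = p ∧ fixA φ l ≠ ⊥

end Cfsg.Lib.QTSolv
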