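import Cfsg.Agent.PLocal.FFModule.Section
import Cfsg.Agent.PLocal.FFModule.Offender
import Cfsg.Agent.PGroups.AutOrder

/-!
Fixed spaces of commuting elements of odd prime order on a module of characteristic two, and the free action
of an involution inverting one of them.
-/

set_option autoImplicit false
set_option linter.unusedSectionVars false
set_option linter.style.haveILetI false

namespace Cfsg.Lib.QTSolv

open Subgroup
open Cfsg.Lib.FFSLTwo (fixA dd dd_apply dd_eq_zero phi_mul phi_one phi_inv_cancel phi_cancel_inv)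

universe u v

variable {P : Type u} [Group P] [Finite P] {E : Type v} [AddCommGroup E] [Finite E]
variable {φ : P →* AddMonoid.End E}

/-- the fixed space of an element -/
def fx (φ : P →* AddMonoid.End E) (y : P) : AddSubgroup E := (dd φ y : E →+ E).ker

/-- the space moved by an element -/
def rg (φ : P →* AddMonoid.End E) (y : P) : AddSubgroup E := (dd φ y : E →+ E).range

theorem mem_fx {y : P} {v : E} : v ∈ fx φ y ↔ φ y v = v := (AddMonoidHom.mem_ker).trans dd_eq_zero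

theorem fx_pow {y : P} {v : E} (h : v ∈ fx φ y) : ∀ n : ℕ, φ (y ^ n) v = v := by
  intro n
  induction n with
  | zero => rw [pow_zero, phi_one]
  | succ n ih => rw [pow_succ, phi_mul, mem_fx.1 h, ih]

theorem fx_mul {y z : P} {v : E} (hy : v ∈ fx φ y) (hz : v ∈ fx φ z) : v ∈ fx φ (y * z) := by
  rw [mem_fx, phi_mul, mem_fx.1 hz, mem_fx.1 hy]

theorem fx_zpowers {y : P} {v : E} (h : v ∈ fx φ y) : v ∈ fixA φ (zpowers y) := by
  intro b hb
  obtain ⟨n, rfl⟩ := (mem_powers_iff_mem_zpowers.2 hb : b ∈ Submonoid.powers y)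
  exact fx_pow h n

theorem fixA_le_fx {A : Subgroup P} {a : P} (ha : a ∈ A) : fixA φ A ≤ fx φ a := fun _ hv => mem_fx.2 (hv a ha)

section Char

variable (hchar : ∀ v : E, 2 • v = 0)
include hchar

theorem neg_eq (v : E) : -v = v := by rw [neg_eq_iff_add_eq_zero, ← two_nsmul]; exact hchar v

theorem sub_eq (v w : E) : v - w = v + w := by rw [sub_eq_add_neg, neg_eq hchar]

theorem odd_nsmul {n : ℕ} (hn : Odd n) (v : E) : n • v = v := by
  obtain ⟨k, rfl⟩ := hn
  rw [add_nsmul, mul_comm, mul_nsmul', smul_comm, hchar]; simp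

theorem rg_free {y : P} (hy : Odd (orderOf y)) {v : E} (hv : v ∈ rg φ y) (hf : φ y v = v) : v = 0 := by
  obtain ⟨w, rfl⟩ := hv
  haveI : Fact (Nat.Prime 2) := ⟨Nat.prime_two⟩
  exact Cfsg.Lib.FFModule.dd_zero_of_coprime hchar (Nat.coprime_two_right.2 hy) hf

/-- an involution inverting a fixed point free element halves -/
theorem card_eq_sq {a y : P} (ha : a * a = 1) (hay : a * y * a = y⁻¹) (hy : Odd (orderOf y)) {U : AddSubgroup E}
    (hUa : ∀ v ∈ U, φ a v ∈ U) (hUy : ∀ v ∈ U, φ y v ∈ U) (hfree : ∀ v ∈ U, φ y v = v → v = 0) :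
    Nat.card U = Nat.card ↥(U ⊓ fx φ a) ^ 2 := by
  set F := U ⊓ fx φ a
  have haa : ∀ v, φ a (φ a v) = v := fun v => by rw [← phi_mul, ha, phi_one]
  have h1 : Nat.card U ≤ Nat.card F * Nat.card F := by
    let f : U →+ F := AddMonoidHom.mk' (fun v => ⟨dd φ a v, AddSubgroup.mem_inf.2 ⟨by
        rw [dd_apply]; exact U.sub_mem (hUa v v.2) v.2, mem_fx.2 (by
        rw [dd_apply, map_sub, haa, sub_eq hchar, sub_eq hchar, add_comm])⟩⟩) fun v w => by
      refine Subtype.ext ?_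
      show dd φ a ((v : E) + w) = dd φ a v + dd φ a w
      rw [map_add]
    have hk : f.ker = F.addSubgroupOf U := by
      ext v
      rw [AddMonoidHom.mem_ker, AddSubgroup.mem_addSubgroupOf, Subtype.ext_iff]
      exact ⟨fun h => AddSubgroup.mem_inf.2 ⟨v.2, h⟩, fun h => (AddSubgroup.mem_inf.1 h).2⟩
    rw [← AddSubgroup.card_mul_index f.ker, AddSubgroup.index_ker, hk,
      Nat.card_congr (AddSubgroup.addSubgroupOfEquivOfLe (inf_le_left : F ≤ U)).toEquiv]
    exact Nat.mul_le_mul_left _ (AddSubgroup.card_le_card_addGroup _)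
  have h2 : Nat.card F * Nat.card F ≤ Nat.card U := by
    rw [← Nat.card_prod]
    refine Nat.card_le_card_of_injective (fun p : F × F => (⟨(p.1 : E) + φ y p.2,
      U.add_mem (AddSubgroup.mem_inf.1 p.1.2).1 (hUy _ (AddSubgroup.mem_inf.1 p.2.2).1)⟩ : U)) ?_
    rintro ⟨f, g⟩ ⟨f', g'⟩ h
    have h' : (f : E) + φ y g = (f' : E) + φ y g' := congrArg Subtype.val h
    have hd : φ y ((g : E) - g') = (f' : E) - f := by
      rw [map_sub, sub_eq_sub_iff_add_eq_add, add_comm (φ y (g : E))]; exact h'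
    have hg : ((g : E) - g') ∈ F := F.sub_mem g.2 g'.2
    have hf : ((f' : E) - f) ∈ F := F.sub_mem f'.2 f.2
    have hg0 : ((g : E) - g') = 0 := by
      have ha1 := mem_fx.1 (AddSubgroup.mem_inf.1 hg).2
      have ha2 := mem_fx.1 (AddSubgroup.mem_inf.1 hf).2
      rw [← hd, ← phi_mul, show a * y = y⁻¹ * a by rw [← hay, mul_assoc, ha, mul_one], phi_mul, ha1] at ha2
      have h3 := congrArg (φ y) ha2
      rw [phi_cancel_inv, ← phi_mul, ← pow_two] at h3
      refine hfree _ (AddSubgroup.mem_inf.1 hg).1 ?_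
      obtain ⟨k, hk⟩ := hy
      have h4 : (y * y) ^ k * y = 1 := by
        rw [← pow_two, ← pow_mul, ← pow_succ, ← hk, pow_orderOf_eq_one]
      have h5 : φ ((y * y) ^ k) ((g : E) - g') = (g : E) - g' :=
        fx_pow (mem_fx.2 (by rw [← pow_two]; exact h3.symm)) k
      conv_rhs => rw [← phi_one (φ := φ) ((g : E) - g'), ← h4,
        ((Commute.refl y).mul_left (Commute.refl y)).pow_left k |>.eq, phi_mul, h5]
    rw [hg0, map_zero, eq_comm, sub_eq_zero] at hd
    exact Prod.ext (Subtype.ext hd.symm) (Subtype.ext (sub_eq_zero.1 hg0))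
  rw [pow_two]
  exact le_antisymm h1 h2

theorem rg_stable_inv {a y : P} (ha : a * a = 1) (hay : a * y * a = y⁻¹) : ∀ v ∈ rg φ y, φ a v ∈ rg φ y := by
  rintro _ ⟨v, rfl⟩
  refine ⟨φ y⁻¹ (φ a v), ?_⟩
  show dd φ y (φ y⁻¹ (φ a v)) = φ a (dd φ y v)
  rw [dd_apply, phi_cancel_inv, dd_apply, map_sub, sub_eq hchar, sub_eq hchar, ← phi_mul a y,
    show a * y = y⁻¹ * a by rw [← hay, mul_assoc, ha, mul_one], phi_mul, add_comm]

theorem rg_stable {y : P} : ∀ v ∈ rg φ y, φ y v ∈ rg φ y := by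
  rintro _ ⟨v, rfl⟩
  refine ⟨φ y v, ?_⟩
  show dd φ y (φ y v) = φ y (dd φ y v)
  rw [dd_apply, dd_apply, map_sub]

/-- an inverted element moves at most the square of the index of the fixed space -/
theorem card_rg_le {a y : P} (ha : a * a = 1) (hay : a * y * a = y⁻¹) (hy : Odd (orderOf y)) {A : Subgroup P}
    (haA : a ∈ A) : Nat.card (rg φ y) ≤ (fixA φ A).index ^ 2 := by
  set U := rg φ y
  have h := card_eq_sq (φ := φ) (U := rg φ y) hchar ha hay hy (rg_stable_inv hchar ha hay) (rg_stable hchar)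
    (fun v hv hf => rg_free hchar hy hv hf)
  have h1 : (fx φ a).relIndex U * Nat.card ↥(U ⊓ fx φ a) = Nat.card U := by
    rw [← AddSubgroup.inf_relIndex_left, AddSubgroup.relIndex,
      ← Nat.card_congr (AddSubgroup.addSubgroupOfEquivOfLe (inf_le_left : U ⊓ fx φ a ≤ U)).toEquiv,
      AddSubgroup.index_mul_card]
  have h2 : (fx φ a).relIndex U = Nat.card ↥(U ⊓ fx φ a) := by
    refine Nat.eq_of_mul_eq_mul_right Nat.card_pos (?_ : _ * Nat.card ↥(U ⊓ fx φ a) = _)
    rw [h1, h, pow_two]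
  rw [h, ← h2]
  refine Nat.pow_le_pow_left (le_trans (b := (fx φ a).index) ?_ ?_) 2
  · rw [← AddSubgroup.relIndex_top_right (fx φ a)]
    exact AddSubgroup.relIndex_le_of_le_right le_top (by
      rw [AddSubgroup.relIndex_top_right]; exact AddSubgroup.FiniteIndex.index_ne_zero)
  · exact Nat.le_of_dvd (Nat.pos_of_ne_zero AddSubgroup.FiniteIndex.index_ne_zero)
      (AddSubgroup.index_dvd_of_le (fixA_le_fx haA))

theorem exists_two_pow (U : AddSubgroup E) : ∃ k, Nat.card U = 2 ^ k := by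
  haveI : Fact (Nat.Prime 2) := ⟨Nat.prime_two⟩
  have h : IsPGroup 2 (Multiplicative U) := fun x => ⟨1, Multiplicative.toAdd.injective (Subtype.ext (by
    simp only [pow_one, toAdd_pow, toAdd_one, AddSubgroup.coe_nsmul, AddSubgroup.coe_zero]
    exact hchar _))⟩
  obtain ⟨k, hk⟩ := h.exists_card_eq
  exact ⟨k, (Nat.card_congr Multiplicative.ofAdd).trans hk⟩

/-- a fixed point free element of order `p` -/
theorem dvd_card_pred {p : ℕ} {y : P} (hy : orderOf y = p) (hp : p.Prime) {U : AddSubgroup E}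
    (hUy : ∀ v ∈ U, φ y v ∈ U) (hfree : ∀ v ∈ U, φ y v = v → v = 0) : p ∣ Nat.card U - 1 := by
  classical
  haveI := Fintype.ofFinite ↥U
  have hpow : ∀ (n : ℕ) v, v ∈ U → φ (y ^ n) v ∈ U := by
    intro n
    induction n with
    | zero => intro v hv; rw [pow_zero, phi_one]; exact hv
    | succ n ih => intro v hv; rw [pow_succ, phi_mul]; exact ih _ (hUy v hv)
  have hz : ∀ b : zpowers y, ∃ n : ℕ, y ^ n = (b : P) := fun b => mem_powers_iff_mem_zpowers.2 b.2
  have hmem : ∀ (b : zpowers y) v, v ∈ U → φ (b : P) v ∈ U := fun b v hv => by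
    obtain ⟨n, hn⟩ := hz b; rw [← hn]; exact hpow n v hv
  letI : MulAction (zpowers y) {v : ↥U // v ≠ 0} :=
    { smul := fun b v => ⟨⟨φ (b : P) (v.1 : E), hmem b _ v.1.2⟩, fun h => v.2 (Subtype.ext (by
        have h' : φ (b : P) (v.1 : E) = 0 := congrArg Subtype.val h
        rw [← phi_inv_cancel (φ := φ) (b : P) (v.1 : E), h', map_zero]; rfl))⟩
      one_smul := fun v => Subtype.ext (Subtype.ext (phi_one _))
      mul_smul := fun b c v => Subtype.ext (Subtype.ext (phi_mul _ _ _)) }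
  have h := Cfsg.Lib.PGroups.card_dvd_of_free (A := zpowers y) (X := {v : ↥U // v ≠ 0}) fun b v hb => by
    by_contra hb1
    have hb' : φ (b : P) (v.1 : E) = v.1 := congrArg (fun w : {v : ↥U // v ≠ 0} => ((w.1 : ↥U) : E)) hb
    have hgen : zpowers (b : P) = zpowers y := by
      refine eq_of_le_of_card_ge (zpowers_le.2 b.2) ?_
      rw [Nat.card_zpowers, Nat.card_zpowers, hy]
      rcases (Nat.dvd_prime hp).1 (hy ▸ orderOf_dvd_of_mem_zpowers b.2) with h1 | h1
      · exact absurd (Subtype.ext (orderOf_eq_one_iff.1 h1)) hb1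
      · exact h1.ge
    exact v.2 (Subtype.ext (hfree _ v.1.2 ((fx_zpowers (mem_fx.2 hb')) y (hgen.ge (mem_zpowers y)))))
  rw [Nat.card_zpowers, hy, Nat.card_eq_fintype_card, Fintype.card_subtype_compl, Fintype.card_subtype_eq,
    ← Nat.card_eq_fintype_card] at h
  exact h

theorem eight_le {p : ℕ} {y : P} (hy : orderOf y = p) (hp : p.Prime) (h5 : 5 ≤ p) {U : AddSubgroup E}
    (hU : U ≠ ⊥) (hUy : ∀ v ∈ U, φ y v ∈ U) (hfree : ∀ v ∈ U, φ y v = v → v = 0) : 8 ≤ Nat.card U := by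
  have hd := dvd_card_pred hchar hy hp hUy hfree
  obtain ⟨k, hk⟩ := exists_two_pow hchar U
  have h1 : 1 < Nat.card U := (AddSubgroup.one_lt_card_iff_ne_bot _).2 hU
  rw [hk] at hd h1 ⊢
  rcases Nat.lt_or_ge k 3 with h | h
  · interval_cases k
    · norm_num at h1
    · have := Nat.le_of_dvd (show 0 < 2 ^ 1 - 1 by norm_num) hd; omega
    · have := Nat.le_of_dvd (show 0 < 2 ^ 2 - 1 by norm_num) hd; omega
  · exact (show 8 = 2 ^ 3 by norm_num).le.trans (Nat.pow_le_pow_right two_pos h)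

theorem eq_five {p : ℕ} {a y : P} (ha : a * a = 1) (hay : a * y * a = y⁻¹) (hy : orderOf y = p) (hp : p.Prime)
    (h5 : 5 ≤ p) {U : AddSubgroup E} (hU : U ≠ ⊥) (hUa : ∀ v ∈ U, φ a v ∈ U) (hUy : ∀ v ∈ U, φ y v ∈ U)
    (hfree : ∀ v ∈ U, φ y v = v → v = 0) : 16 ≤ Nat.card U ∧ (Nat.card U ≤ 32 → p = 5) := by
  have h8 := eight_le hchar hy hp h5 hU hUy hfree
  have hd := dvd_card_pred hchar hy hp hUy hfree
  have hodd : Odd (orderOf y) := hy ▸ hp.odd_of_ne_two (by omega)
  have hsq := card_eq_sq hchar ha hay hodd hUa hUy hfree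
  obtain ⟨k, hk⟩ := exists_two_pow hchar (U ⊓ fx φ a)
  rw [hk] at hsq
  rw [hsq, ← pow_mul] at hd h8 ⊢
  rcases Nat.lt_or_ge k 3 with h | h
  · interval_cases k
    · norm_num at h8
    · norm_num at h8
    refine ⟨by norm_num, fun _ => ?_⟩
    rcases (Nat.Prime.dvd_mul hp).1 (show p ∣ 3 * 5 from hd) with h' | h'
    · exact absurd (Nat.le_of_dvd (by norm_num) h') (by omega)
    · exact (Nat.prime_dvd_prime_iff_eq hp Nat.prime_five).1 h'
  · have := Nat.pow_le_pow_right two_pos (show 6 ≤ k * 2 by omega)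
    exact ⟨by omega, fun h' => absurd h' (by omega)⟩

end Char

/-- the sum over the powers of an element -/
noncomputable def av (φ : P →* AddMonoid.End E) (p : ℕ) (y : P) : E →+ E :=
  ∑ j ∈ Finset.range p, (φ (y ^ j) : E →+ E)

theorem av_apply (p : ℕ) (y : P) (v : E) : av φ p y v = ∑ j ∈ Finset.range p, φ (y ^ j) v :=
  AddMonoidHom.finsetSum_apply _ _ _

theorem av_mem (p : ℕ) {y : P} (hy : y ^ p = 1) (v : E) : av φ p y v ∈ fx φ y := by
  rw [mem_fx, av_apply, map_sum]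
  simp_rw [← phi_mul, ← pow_succ']
  rw [← sub_eq_zero, ← Finset.sum_sub_distrib, Finset.sum_range_sub (fun i => φ (y ^ i) v), hy, pow_zero, sub_self]

theorem av_of_fix (hchar : ∀ v : E, 2 • v = 0) {p : ℕ} (hp : Odd p) {y : P} {v : E} (h : v ∈ fx φ y) :
    av φ p y v = v := by
  rw [av_apply, Finset.sum_congr rfl fun j _ => fx_pow h j, Finset.sum_const, Finset.card_range,
    odd_nsmul hchar hp]

theorem av_mem_of_stable (p : ℕ) {y : P} {S : AddSubgroup E} (hS : ∀ w ∈ S, φ y w ∈ S) {v : E} (hv : v ∈ S) :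
    av φ p y v ∈ S := by
  rw [av_apply]
  refine AddSubgroup.sum_mem _ fun j _ => (?_ : φ (y ^ j) v ∈ S)
  clear * - hS hv
  induction j with
  | zero => rwa [pow_zero, phi_one]
  | succ j ih => rw [pow_succ', phi_mul]; exact hS _ ih

theorem av_zero {p : ℕ} {y w : P} (hy : y ^ p = 1) (hc : Commute y w) {S : AddSubgroup E}
    (hS : ∀ u ∈ S, φ y u ∈ S) {v : E} (hvS : v ∈ S) (hv : v ∈ fx φ w)
    (hd : ∀ u, u ∈ S → u ∈ fx φ y → u ∈ fx φ w → u = 0) : av φ p y v = 0 := by
  refine hd _ (av_mem_of_stable p hS hvS) (av_mem p hy v) ?_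
  rw [mem_fx, av_apply, map_sum]
  refine Finset.sum_congr rfl fun j _ => ?_
  rw [← phi_mul, ← (hc.pow_left j).eq, phi_mul, mem_fx.1 hv]

/-- the fixed spaces of the lines of a plane span -/
theorem spanning (hchar : ∀ v : E, 2 • v = 0) {p : ℕ} (hp : p.Prime) (hp2 : p ≠ 2) {y z : P} (hc : Commute y z)
    (hy : y ^ p = 1) (hz : z ^ p = 1) {v : E}
    (hzero : ∀ u, u ∈ fx φ y → u ∈ fx φ z → (∀ S : AddSubgroup E, v ∈ S → (∀ g ∈ zpowers y ⊔ zpowers z, ∀ w ∈ S, φ g w ∈ S) → u ∈ S) → u = 0) :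
    v = av φ p z v + ∑ i ∈ Finset.range p, av φ p (y * z ^ i) v := by
  classical
  haveI := Fact.mk hp
  set f : ℕ → ℕ → E := fun j k => φ (y ^ j * z ^ k) v with hf
  have hfy : ∀ j k, f (j % p) k = f j k := fun j k => by
    simp only [hf, pow_eq_pow_mod j hy]
  have hfz : ∀ j k, f j (k % p) = f j k := fun j k => by
    simp only [hf, pow_eq_pow_mod k hz]
  set σ := ∑ j ∈ Finset.range p, ∑ k ∈ Finset.range p, f j k with hσ
  have hσ0 : σ = 0 := by
    have hshift : ∀ (g : ℕ → E), (∀ j, g (j % p) = g j) → ∑ j ∈ Finset.range p, g (j + 1) = ∑ j ∈ Finset.range p, g j := by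
      intro g hg
      have := Finset.sum_range_succ' g p
      rw [Finset.sum_range_succ, show g p = g 0 by rw [← hg p, Nat.mod_self]] at this
      exact add_right_cancel this.symm
    refine hzero σ (mem_fx.2 ?_) (mem_fx.2 ?_) fun S hv hS => ?_
    · rw [hσ, map_sum]
      simp_rw [map_sum, hf, ← phi_mul, ← mul_assoc, ← pow_succ']
      exact hshift (fun j => ∑ k ∈ Finset.range p, f j k) (fun j => Finset.sum_congr rfl fun k _ => hfy j k)
    · rw [hσ, map_sum]
      refine Finset.sum_congr rfl fun j _ => ?_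
      rw [map_sum]
      simp_rw [hf, ← phi_mul, ← mul_assoc, ← (hc.pow_left j).eq, mul_assoc, ← pow_succ']
      exact hshift (fun k => f j k) (hfz j)
    · exact AddSubgroup.sum_mem _ fun j _ => AddSubgroup.sum_mem _ fun k _ => hS _
        (mul_mem (mem_sup_left (pow_mem (mem_zpowers y) j)) (mem_sup_right (pow_mem (mem_zpowers z) k))) _ hv
  have hrow : ∀ j ∈ Finset.range p, j ≠ 0 →
      ∑ i ∈ Finset.range p, f j (i * j) = ∑ k ∈ Finset.range p, f j k := by
    intro j hj hj0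
    have hjp : (j : ZMod p) ≠ 0 := fun h => hj0 (Nat.eq_zero_of_dvd_of_lt ((ZMod.natCast_eq_zero_iff _ _).1 h)
      (Finset.mem_range.1 hj))
    have e : ∀ g : ℕ → E, ∑ k ∈ Finset.range p, g k = ∑ k : ZMod p, g k.val := fun g =>
      Finset.sum_nbij' (fun k => (k : ZMod p)) ZMod.val (fun k _ => Finset.mem_univ _)
        (fun k _ => Finset.mem_range.2 k.val_lt) (fun k hk => ZMod.val_natCast_of_lt (Finset.mem_range.1 hk))
        (fun k _ => ZMod.natCast_zmod_val k) (fun k hk => by rw [ZMod.val_natCast_of_lt (Finset.mem_range.1 hk)])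
    rw [e, e]
    refine Fintype.sum_equiv (Equiv.mulRight₀ (j : ZMod p) hjp) _ _ fun i => ?_
    show f j (i.val * j) = f j (i * (j : ZMod p)).val
    rw [ZMod.val_mul, ZMod.val_natCast_of_lt (Finset.mem_range.1 hj), hfz]
  have hav : ∀ i, av φ p (y * z ^ i) v = ∑ j ∈ Finset.range p, f j (i * j) := fun i => by
    rw [av_apply]
    refine Finset.sum_congr rfl fun j _ => ?_
    simp only [hf, (hc.pow_right i).mul_pow, ← pow_mul]
  have h0mem : 0 ∈ Finset.range p := Finset.mem_range.2 hp.pos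
  rw [Finset.sum_congr rfl fun i _ => hav i, Finset.sum_comm,
    ← Finset.add_sum_erase _ _ h0mem,
    Finset.sum_congr rfl fun j hj => hrow j (Finset.mem_of_mem_erase hj) (Finset.ne_of_mem_erase hj),
    av_apply, show ∑ i ∈ Finset.range p, f 0 (i * 0) = v by
      simp only [hf, mul_zero, pow_zero, mul_one, phi_one, Finset.sum_const, Finset.card_range]
      exact odd_nsmul hchar (hp.odd_of_ne_two hp2) v,
    show ∑ j ∈ Finset.range p, φ (z ^ j) v = ∑ k ∈ Finset.range p, f 0 k by simp [hf]]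
  rw [add_left_comm, Finset.add_sum_erase _ (fun j => ∑ k ∈ Finset.range p, f j k) h0mem, ← hσ, hσ0, add_zero]

/-- independent fixed spaces inside a moved space -/
theorem prod_card_le (hchar : ∀ v : E, 2 • v = 0) {p : ℕ} (hp : Odd p) {ι : Type} [Fintype ι] (u : ι → P)
    (hu : ∀ i, (u i) ^ p = 1) (U : ι → AddSubgroup E) (hUu : ∀ i, U i ≤ fx φ (u i))
    (hc : ∀ i j, Commute (u i) (u j))
    (S : AddSubgroup E) (hUS : ∀ i, U i ≤ S) (hS : ∀ i, ∀ v ∈ S, φ (u i) v ∈ S)
    (hd : ∀ i j, i ≠ j → ∀ v, v ∈ S → v ∈ fx φ (u i) → v ∈ fx φ (u j) → v = 0)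
    {w : P} (hUw : ∀ i, ∀ v ∈ U i, φ w v ∈ U i) (hfree : ∀ i, ∀ v ∈ U i, φ w v = v → v = 0) :
    ∏ i, Nat.card (U i) ≤ Nat.card (rg φ w) := by
  classical
  have hin : ∀ i, U i ≤ rg φ w := by
    intro i v hv
    let f : U i → U i := fun x => ⟨dd φ w x, by rw [dd_apply]; exact (U i).sub_mem (hUw i x x.2) x.2⟩
    have hf : Function.Injective f := fun x y h => by
      have h' : dd φ w (x : E) = dd φ w y := congrArg Subtype.val h
      rw [← sub_eq_zero, ← map_sub] at h'
      exact Subtype.ext (sub_eq_zero.1 (hfree i _ ((U i).sub_mem x.2 y.2) (dd_eq_zero.1 h')))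
    obtain ⟨x, hx⟩ := (Finite.injective_iff_surjective.1 hf) ⟨v, hv⟩
    exact ⟨x, congrArg Subtype.val hx⟩
  rw [← Nat.card_pi]
  refine Nat.card_le_card_of_injective (fun f : ∀ i, U i =>
    (⟨∑ i, (f i : E), AddSubgroup.sum_mem _ fun i _ => hin i (f i).2⟩ : rg φ w)) fun f g h => funext fun k => ?_
  have key : ∀ f : ∀ i, U i, av φ p (u k) (∑ i, (f i : E)) = f k := fun f => by
    rw [map_sum, Finset.sum_eq_single k (fun i _ hik => av_zero (hu k) (hc k i) (hS k) (hUS i (f i).2) (hUu i (f i).2)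
      (hd k i (Ne.symm hik))) (fun h => absurd (Finset.mem_univ k) h)]
    exact av_of_fix hchar hp (hUu k (f k).2)
  have h' : ∑ i, (f i : E) = ∑ i, (g i : E) := congrArg Subtype.val h
  exact Subtype.ext (by rw [← key f, ← key g, h'])

end Cfsg.Lib.QTSolv
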