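import Cfsg.Agent.QTKE.Solv.Key

/-!
The abelian case: two lines carry the module and the prime is five.
-/

set_option autoImplicit false
set_option linter.unusedSectionVars false
set_option linter.style.haveILetI false

namespace Cfsg.Lib.QTSolv

open Subgroup
open Cfsg.Lib.FFSLTwo (cj mem_cj fixA dd dd_apply dd_eq_zero phi_mul phi_one phi_inv_cancel phi_cancel_inv mem_fixA_cj)
open Cfsg.Lib.FFModule (cj_mul cj_one cj_inj card_cj)
open scoped commutatorElement

universe u v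

variable {P : Type u} [Group P] [Finite P] {E : Type v} [AddCommGroup E] [Finite E]
variable {φ : P →* AddMonoid.End E} {p : ℕ} {Q Φ A : Subgroup P} (c : Conf φ p Q Φ A)
include c

theorem Conf.comm_Q {x y : P} (hx : x ∈ Q) (hy : y ∈ Q) : Commute x y := by
  have h := c.hcomm x hx y hy
  rw [c.phi_bot, mem_bot] at h
  exact commutatorElement_eq_one_iff_mul_comm.1 h

theorem Conf.pow_Q {x : P} (hx : x ∈ Q) : x ^ p = 1 := by
  have h := c.hexp x hx
  rwa [c.phi_bot, mem_bot] at h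

theorem Conf.card_Q : Nat.card Q = p ^ 2 := by
  have h := c.hidx
  rwa [c.phi_bot, relIndex_bot_left] at h

theorem Conf.line_gen {l : Subgroup P} (hl : l ≤ Q) (hc : Nat.card l = p) {u : P} (hu : u ∈ l) (h1 : u ≠ 1) :
    zpowers u = l := by
  haveI := Fact.mk c.hp
  refine eq_of_le_of_card_ge (zpowers_le.2 hu) ?_
  rw [Nat.card_zpowers, orderOf_eq_prime (c.pow_Q (hl hu)) h1, hc]

theorem Conf.line_of {u : P} (hu : u ∈ Q) (h1 : u ≠ 1) : zpowers u ≤ Q ∧ Nat.card (zpowers u) = p := by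
  haveI := Fact.mk c.hp
  exact ⟨zpowers_le.2 hu, by rw [Nat.card_zpowers, orderOf_eq_prime (c.pow_Q hu) h1]⟩

theorem Conf.exists_gen {l : Subgroup P} (hc : Nat.card l = p) : ∃ u ∈ l, u ≠ 1 :=
  (Subgroup.bot_or_exists_ne_one l).resolve_left fun h => by
    rw [h, Subgroup.card_bot] at hc
    exact c.hp.ne_one hc.symm

theorem Conf.line_inf {l l' : Subgroup P} (hl : l ≤ Q) (hlc : Nat.card l = p) (hl' : l' ≤ Q)
    (hlc' : Nat.card l' = p) (hne : l ≠ l') {v : E} (h : v ∈ fixA φ l) (h' : v ∈ fixA φ l') : v = 0 := by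
  refine c.hfix v fun x hx => ?_
  have hlt : l < l ⊔ l' := lt_of_le_not_ge le_sup_left fun hle =>
    hne (eq_of_le_of_card_ge ((le_sup_right).trans hle : l' ≤ l) (by rw [hlc, hlc'])).symm
  have hQ : l ⊔ l' = Q := eq_of_le_of_card_ge (sup_le hl hl') (by
    have := c.step (sup_le hl hl') hlt
    rw [hlc, ← pow_two] at this
    rwa [c.card_Q])
  exact (show l ⊔ l' ≤ stab φ v from sup_le (fun y hy => h y hy) fun y hy => h' y hy) (hQ.ge hx)

theorem Conf.fx_line {u : P} : fx φ u = fixA φ (zpowers u) :=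
  le_antisymm (fun _ h => fx_zpowers h) (fixA_le_fx (mem_zpowers u))

/-- besides any line there is another one carrying part of the module -/
theorem Conf.exists_other {l₀ : Subgroup P} (hl : l₀ ≤ Q) (hc : Nat.card l₀ = p) :
    ∃ l, Line φ p Q l ∧ l ≠ l₀ := by
  haveI := Fact.mk c.hp
  obtain ⟨z, hz, hz1⟩ := c.exists_gen hc
  obtain ⟨y, hy, hyl⟩ := SetLike.exists_of_lt (lt_of_le_of_ne hl fun h => by
    rw [h, c.card_Q] at hc
    have := c.hp.one_lt
    nlinarith)
  by_contra hcon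
  push Not at hcon
  refine hz1 (c.hinj (DFunLike.ext (F := AddMonoid.End E) _ _ fun v => ?_))
  rw [phi_one, ← mem_fx]
  have h := spanning c.hchar c.hp c.p2 (c.comm_Q hy (hl hz)) (c.pow_Q hy) (c.pow_Q (hl hz)) (φ := φ) (v := v)
    fun u huy huz _ => by
      have hy1 : y ≠ 1 := fun h => hyl (h ▸ one_mem _)
      refine c.line_inf (c.line_of hy hy1).1 (c.line_of hy hy1).2 hl hc (fun h => hyl (h ▸ mem_zpowers y))
        (fx_zpowers huy) ?_
      rw [← c.line_gen hl hc hz hz1]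
      exact fx_zpowers huz
  rw [h, Finset.sum_eq_zero fun i _ => ?_, add_zero]
  · exact av_mem p (c.pow_Q (hl hz)) v
  · have hu : y * z ^ i ∈ Q := mul_mem hy (pow_mem (hl hz) i)
    have hul : y * z ^ i ∉ l₀ := fun h => hyl (by simpa using mul_mem h (inv_mem (pow_mem hz i)))
    have hu1 : y * z ^ i ≠ 1 := fun h => hul (h ▸ one_mem _)
    have hb : fixA φ (zpowers (y * z ^ i)) = ⊥ := by
      by_contra hb
      exact hul ((hcon _ ⟨(c.line_of hu hu1).1, (c.line_of hu hu1).2, hb⟩).le (mem_zpowers _))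
    exact AddSubgroup.mem_bot.1 (hb ▸ fx_zpowers (av_mem p (c.pow_Q hu) v))

theorem Conf.line_stable {x : P} (hx : x ∈ Q) {l : Subgroup P} (hl : l ≤ Q) :
    ∀ v ∈ fixA φ l, φ x v ∈ fixA φ l := fun v hv a ha => by
  rw [← phi_mul, (c.comm_Q (hl ha) hx).eq, phi_mul, hv a ha]

theorem Conf.line_free {w : P} (hw : w ∈ Q) {l : Subgroup P} (hl : l ≤ Q) (hc : Nat.card l = p) (hwl : w ∉ l) :
    ∀ v ∈ fixA φ l, φ w v = v → v = 0 := fun v hv h => by
  have hw1 : w ≠ 1 := fun h => hwl (h ▸ one_mem _)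
  exact c.line_inf (c.line_of hw hw1).1 (c.line_of hw hw1).2 hl hc (fun h => hwl (h ▸ mem_zpowers w))
    (fx_zpowers (mem_fx.2 h)) hv

/-- lines avoiding `w` add up inside the space moved by `w` -/
theorem Conf.lines_le {n : ℕ} {w : P} (hw : w ∈ Q) (l : Fin n → Subgroup P) (hl : ∀ i, Line φ p Q (l i))
    (hne : ∀ i j, i ≠ j → l i ≠ l j) (hwl : ∀ i, w ∉ l i) :
    ∏ i, Nat.card (fixA φ (l i)) ≤ Nat.card (rg φ w) := by
  choose u hu hu1 using fun i => c.exists_gen (hl i).2.1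
  have hgen : ∀ i, zpowers (u i) = l i := fun i => c.line_gen (hl i).1 (hl i).2.1 (hu i) (hu1 i)
  exact prod_card_le c.hchar c.p_odd u (fun i => c.pow_Q ((hl i).1 (hu i))) (fun i => fixA φ (l i))
    (fun i => fixA_le_fx (hu i)) (fun i j => c.comm_Q ((hl i).1 (hu i)) ((hl j).1 (hu j))) ⊤ (fun i => le_top)
    (fun i v _ => AddSubgroup.mem_top _)
    (fun i j hij v _ h1 h2 => c.line_inf (hl i).1 (hl i).2.1 (hl j).1 (hl j).2.1 (hne i j hij)
      (hgen i ▸ fx_zpowers h1) (hgen j ▸ fx_zpowers h2))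
    (w := w) (fun i => c.line_stable hw (hl i).1) (fun i => c.line_free hw (hl i).1 (hl i).2.1 (hwl i))

theorem Conf.line_eight {l : Subgroup P} (hl : Line φ p Q l) {w : P} (hw : w ∈ Q) (hwl : w ∉ l) :
    8 ≤ Nat.card (fixA φ l) := by
  haveI := Fact.mk c.hp
  exact eight_le c.hchar (orderOf_eq_prime (c.pow_Q hw) fun h => hwl (h ▸ one_mem _)) c.hp c.h5 hl.2.2
    (c.line_stable hw hl.1) (c.line_free hw hl.1 hl.2.1 hwl)

theorem Conf.avoid {l₁ l₂ l₃ : Subgroup P} (h₁ : l₁ ≤ Q) (c₁ : Nat.card l₁ = p) (h₂ : l₂ ≤ Q)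
    (c₂ : Nat.card l₂ = p) (h₃ : l₃ ≤ Q) (c₃ : Nat.card l₃ = p) (h12 : l₁ ≠ l₂) (h13 : l₁ ≠ l₃) :
    ∃ w ∈ Q, w ∉ l₁ ∧ w ∉ l₂ ∧ w ∉ l₃ := by
  haveI := Fact.mk c.hp
  obtain ⟨z, hz, hz1⟩ := c.exists_gen c₁
  obtain ⟨y, hy, hy1⟩ := c.exists_gen c₂
  have hz2 : z ∉ l₂ := fun h => h12 ((c.line_gen h₁ c₁ hz hz1).symm.trans (c.line_gen h₂ c₂ h hz1))
  have hy1' : y ∉ l₁ := fun h => h12 ((c.line_gen h₁ c₁ h hy1).symm.trans (c.line_gen h₂ c₂ hy hy1))
  have hw1 : ∀ i : ℕ, y * z ^ i ∉ l₁ := fun i h => hy1' (by simpa using mul_mem h (inv_mem (pow_mem hz i)))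
  have hsq : z ^ 2 ≠ 1 := fun h => hz1 (eq_one_of_sq c.hp c.p2 (c.pow_Q (h₁ hz)) (by rw [← pow_two]; exact h))
  have hz2' : z ^ 2 ∉ l₂ := fun h => h12 ((c.line_gen h₁ c₁ (pow_mem hz 2) hsq).symm.trans (c.line_gen h₂ c₂ h hsq))
  by_cases h : y * z ∈ l₃
  · refine ⟨y * z ^ 2, mul_mem (h₂ hy) (pow_mem (h₁ hz) 2), hw1 2, fun h' => hz2' ?_, fun h' => h13 ?_⟩
    · simpa using mul_mem (inv_mem hy) h'
    · have : z ∈ l₃ := by simpa [pow_two] using mul_mem (inv_mem h) h'
      exact (c.line_gen h₁ c₁ hz hz1).symm.trans (c.line_gen h₃ c₃ this hz1)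
  · refine ⟨y * z, mul_mem (h₂ hy) (h₁ hz), by simpa using hw1 1, fun h' => hz2 ?_, h⟩
    simpa using mul_mem (inv_mem hy) h'

theorem Conf.five_of_line {a y : P} (ha : a ∈ A) (hy : y ∈ Q) (hy1 : y ≠ 1) (hay : a * y * a = y⁻¹) {l : Subgroup P}
    (hl : Line φ p Q l) (hal : ∀ x ∈ l, a * x * a ∈ l) (hyl : y ∉ l) :
    16 ≤ Nat.card (fixA φ l) ∧ (Nat.card (fixA φ l) ≤ 32 → p = 5) := by
  haveI := Fact.mk c.hp
  refine eq_five c.hchar (c.sq ha) hay (orderOf_eq_prime (c.pow_Q hy) hy1) c.hp c.h5 hl.2.2 ?_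
    (c.line_stable hy hl.1) (c.line_free hy hl.1 hl.2.1 hyl)
  intro v hv x hx
  have h := hv _ (hal x hx)
  rw [phi_mul, phi_mul] at h
  conv_rhs => rw [← h]
  rw [← phi_mul a a, c.sq ha, phi_one]

/-- the two lines -/
theorem Conf.two_lines : p = 5 ∧ ∃ l₁ l₂, Line φ p Q l₁ ∧ Line φ p Q l₂ ∧ l₁ ≠ l₂ ∧
    ∀ l, Line φ p Q l → l = l₁ ∨ l = l₂ := by
  haveI := Fact.mk c.hp
  obtain ⟨l₁, hl₁, -⟩ : ∃ l, Line φ p Q l ∧ True := by
    obtain ⟨y, hy, hy1⟩ := (Subgroup.bot_or_exists_ne_one Q).resolve_left fun h => by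
      have := c.card_Q
      rw [h, Subgroup.card_bot] at this
      exact (Nat.one_lt_pow two_ne_zero c.hp.one_lt).ne this
    obtain ⟨l, hl, -⟩ := c.exists_other (c.line_of hy hy1).1 (c.line_of hy hy1).2
    exact ⟨l, hl, trivial⟩
  obtain ⟨l₂, hl₂, h21⟩ := c.exists_other hl₁.1 hl₁.2.1
  obtain ⟨-, hcase⟩ := c.sign
  rcases hcase with ⟨a, ha, hinv⟩ | hA2
  · have hinv' : ∀ x ∈ Q, a * x * a = x⁻¹ := fun x hx => by
      have h := hinv x hx
      rw [c.phi_bot, mem_bot] at h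
      exact eq_inv_of_mul_eq_one_right h
    have hb : ∀ w ∈ Q, Nat.card (rg φ w) ≤ 256 := fun w hw => c.budget_le ha (hinv' w hw) (c.odd_order hw)
    have hother : ∀ l, Line φ p Q l → l = l₁ ∨ l = l₂ := by
      intro l hl
      by_contra hcon
      push Not at hcon
      obtain ⟨w, hw, w1, w2, w3⟩ := c.avoid hl₁.1 hl₁.2.1 hl₂.1 hl₂.2.1 hl.1 hl.2.1 h21.symm hcon.1.symm
      have h := c.lines_le hw ![l₁, l₂, l] (fun i => by fin_cases i; exacts [hl₁, hl₂, hl])
        (fun i j hij => by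
          fin_cases i <;> fin_cases j <;>
            first | (exact absurd rfl hij) | (exact h21.symm) | (exact h21) | (exact hcon.1.symm) | (exact hcon.1) | (exact hcon.2.symm) | (exact hcon.2))
        (fun i => by fin_cases i; exacts [w1, w2, w3])
      rw [Fin.prod_univ_three] at h
      have h8 := Nat.mul_le_mul (Nat.mul_le_mul (c.line_eight hl₁ hw w1) (c.line_eight hl₂ hw w2))
        (c.line_eight hl hw w3)
      have := hb w hw
      simp only [Matrix.cons_val_zero, Matrix.cons_val_one, Matrix.cons_val] at h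
      omega
    refine ⟨?_, l₁, l₂, hl₁, hl₂, h21.symm, hother⟩
    obtain ⟨w, hw, w1, w2, -⟩ := c.avoid hl₁.1 hl₁.2.1 hl₂.1 hl₂.2.1 hl₂.1 hl₂.2.1 h21.symm h21.symm
    have h := c.lines_le hw ![l₁, l₂] (fun i => by fin_cases i; exacts [hl₁, hl₂])
      (fun i j hij => by fin_cases i <;> fin_cases j <;> first | exact absurd rfl hij | exact h21.symm | exact h21)
      (fun i => by fin_cases i; exacts [w1, w2])
    rw [Fin.prod_univ_two] at h
    simp only [Matrix.cons_val_zero, Matrix.cons_val_one] at h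
    have hfive : ∀ {l : Subgroup P}, Line φ p Q l → w ∉ l →
        16 ≤ Nat.card (fixA φ l) ∧ (Nat.card (fixA φ l) ≤ 32 → p = 5) := fun {l} hl hwl =>
      c.five_of_line ha hw (fun h => hwl (h ▸ one_mem _)) (hinv' w hw) hl
        (fun x hx => by rw [hinv' x (hl.1 hx)]; exact inv_mem hx) hwl
    obtain ⟨e1, f1⟩ := hfive hl₁ w1
    obtain ⟨e2, -⟩ := hfive hl₂ w2
    have := hb w hw
    refine f1 ?_
    nlinarith
  · obtain ⟨a, ha, ha1⟩ := (Subgroup.bot_or_exists_ne_one A).resolve_left c.hAne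
    have haa := c.sq ha
    have hai : a⁻¹ = a := inv_eq_of_mul_eq_one_right haa
    obtain ⟨q, hq, hqa⟩ : ∃ q ∈ Q, a * q * a ≠ q := by
      by_contra hcon
      push Not at hcon
      refine ha1 (c.hfaith a ha fun q hq => ?_)
      rw [c.phi_bot, mem_bot, commutatorElement_eq_one_iff_mul_comm]
      calc q * a = (a * q * a) * a := by rw [hcon q hq]
        _ = a * q := by rw [mul_assoc, haa, mul_one]
    set y := q⁻¹ * (a * q * a) with hydef
    have hy : y ∈ Q := mul_mem (inv_mem hq) (c.conj_Q ha hq)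
    have hy1 : y ≠ 1 := fun h => hqa (inv_mul_eq_one.1 h).symm
    have hay : a * y * a = y⁻¹ := by
      rw [hydef, _root_.mul_inv_rev, inv_inv, _root_.mul_inv_rev, _root_.mul_inv_rev, hai,
        show a * (q⁻¹ * (a * q * a)) * a = a * q⁻¹ * a * q * (a * a) by group, haa]
      group
    have hrg : Nat.card (rg φ y) ≤ 16 := (c.budget ha hay (c.odd_order hy)).trans (by
      calc (Nat.card A ^ 2) ^ 2 ≤ (2 ^ 2) ^ 2 := Nat.pow_le_pow_left (Nat.pow_le_pow_left hA2 2) 2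
        _ = 16 := by norm_num)
    set lm := zpowers y
    have hnot : ∀ {l : Subgroup P}, Line φ p Q l → l ≠ lm → y ∉ l := fun {l} hl hne h =>
      hne (c.line_gen hl.1 hl.2.1 h hy1).symm
    have huniq : ∀ l l', Line φ p Q l → Line φ p Q l' → l ≠ lm → l' ≠ lm → l = l' := by
      intro l l' hl hl' h h'
      by_contra hne
      have h1 := c.lines_le hy ![l, l'] (fun i => by fin_cases i; exacts [hl, hl'])
        (fun i j hij => by fin_cases i <;> fin_cases j <;> first | exact absurd rfl hij | exact hne | exact Ne.symm hne)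
        (fun i => by fin_cases i; exacts [hnot hl h, hnot hl' h'])
      rw [Fin.prod_univ_two] at h1
      simp only [Matrix.cons_val_zero, Matrix.cons_val_one] at h1
      have := Nat.mul_le_mul (c.line_eight hl hy (hnot hl h)) (c.line_eight hl' hy (hnot hl' h'))
      omega
    obtain ⟨l, hl, hne⟩ := c.exists_other (c.line_of hy hy1).1 (c.line_of hy hy1).2
    have hcjl : Line φ p Q (cj a l) := by
      refine ⟨?_, (card_cj a l).trans hl.2.1, ?_⟩
      · rintro _ ⟨x, hx, rfl⟩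
        show a * x * a⁻¹ ∈ Q
        rw [hai]; exact c.conj_Q ha (hl.1 hx)
      · intro hbot
        refine hl.2.2 (eq_bot_iff.2 fun v hv => ?_)
        have h : φ a v ∈ fixA φ (cj a l) := mem_fixA_cj.2 (by rwa [phi_inv_cancel])
        rw [hbot, AddSubgroup.mem_bot] at h
        rw [AddSubgroup.mem_bot, ← phi_inv_cancel (φ := φ) a v, h, map_zero]
    have hlm : cj a lm = lm := by
      show (zpowers y).map _ = zpowers y
      rw [MonoidHom.map_zpowers]
      show zpowers (a * y * a⁻¹) = _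
      rw [hai, hay, zpowers_inv]
    have hcne : cj a l ≠ lm := fun h => hne (cj_inj (h.trans hlm.symm))
    have hfixl : cj a l = l := huniq _ _ hcjl hl hcne hne
    obtain ⟨hge, hfive⟩ := c.five_of_line ha hy hy1 hay hl (fun x hx => by
      have := mem_map_of_mem (MulAut.conj a).toMonoidHom hx
      rw [show l.map (MulAut.conj a).toMonoidHom = l from hfixl] at this
      simpa [hai] using this) (hnot hl hne)
    have hp5 : p = 5 := hfive (by
      have h := c.lines_le hy ![l] (fun i => by fin_cases i; exact hl) (fun i j hij => absurd (Subsingleton.elim i j) hij)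
        (fun i => by fin_cases i; exact hnot hl hne)
      rw [Fin.prod_univ_one] at h
      simp only [Matrix.cons_val_zero] at h
      omega)
    obtain ⟨l', hl', hne'⟩ := c.exists_other hl.1 hl.2.1
    have hl'm : l' = lm := by
      by_contra h
      exact hne' (huniq _ _ hl' hl h hne)
    refine ⟨hp5, l, lm, hl, hl'm ▸ hl', hne, fun k hk => ?_⟩
    by_cases h : k = lm
    · exact Or.inr h
    · exact Or.inl (huniq _ _ hk hl h hne)

/-- the conclusion -/
theorem Conf.conclusion : p = 5 ∧ ∀ g : P, ∀ r : ℕ, r.Prime → r ≠ 2 → r ≠ 5 →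
    (∀ x ∈ Q, ⁅x, g ^ r⁆ ∈ Φ) → ∀ x ∈ Q, ⁅x, g⁆ ∈ Φ := by
  obtain ⟨hp5, l₁, l₂, hl₁, hl₂, hne, hall⟩ := c.two_lines
  refine ⟨hp5, fun g r hr hr2 hr5 hcent => ?_⟩
  haveI := Fact.mk c.hp
  haveI := c.hQn
  have hline : ∀ {l}, Line φ p Q l → Line φ p Q (cj g l) := by
    intro l hl
    refine ⟨?_, (card_cj g l).trans hl.2.1, fun hbot => hl.2.2 (eq_bot_iff.2 fun v hv => ?_)⟩
    · rintro _ ⟨x, hx, rfl⟩
      exact c.hQn.conj_mem x (hl.1 hx) g
    · have h : φ g v ∈ fixA φ (cj g l) := mem_fixA_cj.2 (by rwa [phi_inv_cancel])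
      rw [hbot, AddSubgroup.mem_bot] at h
      rw [AddSubgroup.mem_bot, ← phi_inv_cancel (φ := φ) g v, h, map_zero]
  have hrfix : ∀ {l : Subgroup P}, l ≤ Q → cj (g ^ r) l = l := fun {l} hl => by
    have hx : ∀ x ∈ l, g ^ r * x * (g ^ r)⁻¹ = x := fun x hx => by
      have h := hcent x (hl hx)
      rw [c.phi_bot, mem_bot, commutatorElement_eq_one_iff_mul_comm] at h
      rw [← h, mul_inv_cancel_right]
    ext x
    constructor
    · rintro ⟨y, hy, rfl⟩
      show g ^ r * y * (g ^ r)⁻¹ ∈ l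
      rw [hx y hy]; exact hy
    · exact fun h => ⟨x, h, hx x h⟩
  have hg1 : cj g l₁ = l₁ := by
    rcases hall _ (hline hl₁) with h | h
    · exact h
    exfalso
    have h2 : cj g l₂ = l₁ := (hall _ (hline hl₂)).resolve_right fun h' => hne (cj_inj (h.trans h'.symm))
    have hk : ∀ k : ℕ, cj (g ^ (2 * k + 1)) l₁ = l₂ := by
      intro k
      induction k with
      | zero => rw [mul_zero, zero_add, pow_one, h]
      | succ k ih => rw [show 2 * (k + 1) + 1 = (2 * k + 1) + 1 + 1 by ring, pow_succ', ← cj_mul, pow_succ', ← cj_mul,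
          ih, h2, h]
    obtain ⟨k, hk'⟩ := hr.odd_of_ne_two hr2
    exact hne ((hrfix hl₁.1).symm.trans (hk' ▸ hk k))
  have hg2 : cj g l₂ = l₂ := (hall _ (hline hl₂)).resolve_left fun h => hne (cj_inj (hg1.trans h.symm))
  have hcentl : ∀ {l : Subgroup P}, Line φ p Q l → cj g l = l → ∀ x ∈ l, Commute x g := by
    intro l hl hgl x hx
    obtain ⟨u, hu, hu1⟩ := c.exists_gen hl.2.1
    have hord : orderOf u = 5 := by rw [orderOf_eq_prime (c.pow_Q (hl.1 hu)) hu1, hp5]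
    have hgu : g * u * g⁻¹ ∈ zpowers u := by
      rw [c.line_gen hl.1 hl.2.1 hu hu1]
      conv => rw [← hgl]
      exact ⟨u, hu, rfl⟩
    obtain ⟨j, hj⟩ := (mem_powers_iff_mem_zpowers.2 hgu : _ ∈ Submonoid.powers u)
    simp only at hj
    have hn : ∀ n : ℕ, g ^ n * u * (g ^ n)⁻¹ = u ^ (j ^ n) := by
      intro n
      induction n with
      | zero => simp
      | succ n ih =>
        rw [show g ^ (n + 1) * u * (g ^ (n + 1))⁻¹ = g * (g ^ n * u * (g ^ n)⁻¹) * g⁻¹ by rw [pow_succ']; group,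
          ih, ← conj_pow, ← hj, ← pow_mul, pow_succ' j n]
    have h1 : g ^ r * u * (g ^ r)⁻¹ = u := by
      have h := hcent u (hl.1 hu)
      rw [c.phi_bot, mem_bot, commutatorElement_eq_one_iff_mul_comm] at h
      rw [← h, mul_inv_cancel_right]
    rw [hn r] at h1
    nth_rewrite 2 [← pow_one u] at h1
    rw [pow_inj_mod, hord] at h1
    haveI : Fact (Nat.Prime 5) := ⟨Nat.prime_five⟩
    have hj5 : (j : ZMod 5) ^ r = 1 := by
      have : ((j ^ r : ℕ) : ZMod 5) = ((1 : ℕ) : ZMod 5) := (ZMod.natCast_eq_natCast_iff' _ _ _).2 h1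
      simpa using this
    have hj4 : (j : ZMod 5) ^ 4 = 1 := by
      refine ZMod.pow_card_sub_one_eq_one fun h0 => ?_
      rw [h0, zero_pow hr.ne_zero] at hj5
      exact zero_ne_one hj5
    have hcop : Nat.Coprime r 4 := (Nat.Coprime.pow_right 2 ((Nat.coprime_primes hr Nat.prime_two).2 hr2) : _)
    have hj1 : (j : ZMod 5) = 1 := by
      have h := pow_gcd_eq_one.2 ⟨hj5, hj4⟩
      rwa [hcop, pow_one] at h
    have hju : u ^ j = u := by
      conv_rhs => rw [← pow_one u]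
      rw [pow_inj_mod, hord]
      exact (ZMod.natCast_eq_natCast_iff' _ _ _).1 (by rw [hj1, Nat.cast_one])
    rw [hju] at hj
    have hxu : x ∈ zpowers u := by rw [c.line_gen hl.1 hl.2.1 hu hu1]; exact hx
    obtain ⟨k, rfl⟩ := mem_zpowers_iff.1 hxu
    exact ((show Commute u g from (mul_inv_eq_iff_eq_mul.1 hj.symm).symm).zpow_left k)
  intro x hx
  rw [c.phi_bot, mem_bot, commutatorElement_eq_one_iff_mul_comm]
  have hlt : l₁ < l₁ ⊔ l₂ := lt_of_le_not_ge le_sup_left fun hle =>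
    hne (eq_of_le_of_card_ge ((le_sup_right).trans hle : l₂ ≤ l₁) (by rw [hl₁.2.1, hl₂.2.1])).symm
  have hQ : l₁ ⊔ l₂ = Q := eq_of_le_of_card_ge (sup_le hl₁.1 hl₂.1) (by
    have := c.step (sup_le hl₁.1 hl₂.1) hlt
    rw [hl₁.2.1, ← pow_two] at this
    rwa [c.card_Q])
  exact mem_centralizer_singleton_iff.1 ((show l₁ ⊔ l₂ ≤ centralizer ({g} : Set P) from sup_le
    (fun y hy => mem_centralizer_singleton_iff.2 (hcentl hl₁ hg1 y hy).eq)
    (fun y hy => mem_centralizer_singleton_iff.2 (hcentl hl₂ hg2 y hy).eq)) (hQ.ge hx))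

end Cfsg.Lib.QTSolv
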