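import Cfsg.Agent.QTKE.Solv.Line
import Cfsg.Agent.JComp.Basic
import Cfsg.Prelude.Def_Classification2
import Cfsg.Agent.Thompson.ElemToolkit

/-!
A group of order `p ^ 2` or `p ^ 3` on a module of characteristic two, normalised by an elementary abelian
`2`-group `A` with fixed space of index at most `|A| ^ 2`.
-/

set_option autoImplicit false
set_option linter.unusedSectionVars false
set_option linter.style.haveILetI false

namespace Cfsg.Lib.QTSolv

open Subgroup
open Cfsg.Lib.FFSLTwo (fixA dd dd_apply dd_eq_zero phi_mul phi_one phi_inv_cancel phi_cancel_inv)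
open scoped commutatorElement

universe u v

variable {P : Type u} [Group P] [Finite P]

/-- an element of order two on a subgroup of prime order -/
theorem sign_of_card {p : ℕ} (hp : p.Prime) (hp2 : p ≠ 2) {L : Subgroup P} (hL : Nat.card L = p) {b : P}
    (hb : b * b = 1) (hn : ∀ x ∈ L, b * x * b ∈ L) :
    (∀ x ∈ L, b * x * b = x) ∨ (∀ x ∈ L, b * x * b = x⁻¹) := by
  have := hp2
  haveI := Fact.mk hp
  haveI hcyc : IsCyclic L := isCyclic_of_prime_card hL
  obtain ⟨⟨u, hu⟩, hgen⟩ := IsCyclic.exists_generator (α := L)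
  have hord : orderOf u = p := by
    rw [← hL, ← orderOf_eq_card_of_forall_mem_zpowers hgen]
    exact (Subgroup.orderOf_coe ⟨u, hu⟩).symm ▸ rfl
  have hall : ∀ x ∈ L, ∃ k : ℤ, u ^ k = x := fun x hx => by
    obtain ⟨k, hk⟩ := mem_zpowers_iff.1 (hgen ⟨x, hx⟩)
    exact ⟨k, congrArg Subtype.val hk⟩
  obtain ⟨j, hj⟩ := hall _ (hn u hu)
  have hbi : b⁻¹ = b := inv_eq_of_mul_eq_one_right hb
  have hconj : ∀ k : ℤ, b * u ^ k * b = u ^ (j * k) := fun k => by
    rw [zpow_mul, hj]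
    conv_rhs => arg 1; arg 2; rw [← hbi]
    rw [conj_zpow, hbi]
  have hjj : u ^ (j * j) = u := by
    rw [← hconj j, hj, ← mul_assoc, ← mul_assoc, hb, one_mul, mul_assoc, hb, mul_one]
  have h1 : (p : ℤ) ∣ (j - 1) * (j + 1) := by
    rw [← hord, orderOf_dvd_iff_zpow_eq_one, show (j - 1) * (j + 1) = j * j - 1 by ring, zpow_sub, hjj, zpow_one,
      mul_inv_cancel]
  rcases (Nat.prime_iff_prime_int.1 hp).dvd_or_dvd h1 with h | h
  · refine Or.inl fun x hx => ?_
    obtain ⟨k, rfl⟩ := hall x hx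
    rw [hconj k, ← mul_inv_eq_one, ← zpow_neg, ← zpow_add, ← orderOf_dvd_iff_zpow_eq_one, hord,
      show j * k + -k = (j - 1) * k by ring]
    exact Dvd.dvd.mul_right h k
  · refine Or.inr fun x hx => ?_
    obtain ⟨k, rfl⟩ := hall x hx
    rw [hconj k, ← mul_inv_eq_one, inv_inv, ← zpow_add, ← orderOf_dvd_iff_zpow_eq_one, hord,
      show j * k + k = (j + 1) * k by ring]
    exact Dvd.dvd.mul_right h k

theorem eq_one_of_sq {p : ℕ} (hp : p.Prime) (hp2 : p ≠ 2) {y : P} (hy : y ^ p = 1) (h : y * y = 1) : y = 1 := by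
  refine orderOf_eq_one_iff.1 (Nat.eq_one_of_dvd_coprimes ((Nat.coprime_primes hp Nat.prime_two).2 hp2)
    (orderOf_dvd_of_pow_eq_one hy) (orderOf_dvd_of_pow_eq_one ?_))
  rw [pow_two]; exact h

/-- an elementary abelian `2`-group on a plane -/
theorem sign_plane {p : ℕ} (hp : p.Prime) (hp2 : p ≠ 2) {Q A : Subgroup P} (hQ : Cfsg.IsElementaryAbelian p Q)
    (hQc : Nat.card Q = p ^ 2) (hA : Cfsg.IsElementaryAbelian 2 A) (hn : ∀ a ∈ A, ∀ x ∈ Q, a * x * a ∈ Q)
    (hfaith : ∀ a ∈ A, (∀ x ∈ Q, a * x * a = x) → a = 1) :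
    Nat.card A ≤ 4 ∧ ((∃ c ∈ A, ∀ x ∈ Q, c * x * c = x⁻¹) ∨ Nat.card A ≤ 2) := by
  classical
  haveI := Fact.mk hp
  have hsq : ∀ a ∈ A, a * a = 1 := fun a ha => by rw [← pow_two]; exact hA.2 a ha
  have hcA : ∀ a ∈ A, ∀ b ∈ A, a * b = b * a := fun a ha b hb => Cfsg.Lib.ElemToolkit.comm_of hA.1 ha hb
  have hcQ : ∀ x ∈ Q, ∀ y ∈ Q, x * y = y * x := fun x hx y hy => Cfsg.Lib.ElemToolkit.comm_of hQ.1 hx hy
  have hmul : ∀ {a : P}, a * a = 1 → ∀ x y : P, a * (x * y) * a = (a * x * a) * (a * y * a) := fun {a} h x y => by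
    rw [show a * x * a * (a * y * a) = a * x * (a * a) * y * a by group, h]; group
  have hinv : ∀ {a : P}, a * a = 1 → ∀ x : P, a * x⁻¹ * a = (a * x * a)⁻¹ := fun {a} h x => by
    rw [_root_.mul_inv_rev, _root_.mul_inv_rev, inv_eq_of_mul_eq_one_right h]; group
  by_cases hall : ∀ a ∈ A, a ≠ 1 → ∀ x ∈ Q, a * x * a = x⁻¹
  · have h2 : Nat.card A ≤ 2 := by
      rcases eq_or_ne A ⊥ with h | h
      · rw [h, Subgroup.card_bot]; norm_num
      obtain ⟨a, ha, ha1⟩ := (Subgroup.bot_or_exists_ne_one A).resolve_left h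
      have hle : A ≤ zpowers a := fun b hb => by
        rcases eq_or_ne b 1 with rfl | hb1
        · exact one_mem _
        have h1 : a * b = 1 := hfaith _ (mul_mem ha hb) fun x hx => by
          rw [show a * b * x * (a * b) = a * b * x * (b * a) by rw [hcA a ha b hb],
            show a * b * x * (b * a) = a * (b * x * b) * a by group, hall b hb hb1 x hx, hinv (hsq a ha),
            hall a ha ha1 x hx, inv_inv]
        rw [show b = a⁻¹ from eq_inv_of_mul_eq_one_right h1]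
        exact inv_mem (mem_zpowers a)
      refine (Subgroup.card_le_of_le hle).trans ?_
      rw [Nat.card_zpowers]
      exact Nat.le_of_dvd two_pos (orderOf_dvd_of_pow_eq_one (hA.2 a ha))
    exact ⟨h2.trans (by norm_num), Or.inr h2⟩
  push Not at hall
  obtain ⟨a, ha, ha1, x₀, hx₀, hx₀'⟩ := hall
  let Lp : Subgroup P :=
    { carrier := {x | x ∈ Q ∧ a * x * a = x}
      one_mem' := ⟨one_mem _, by rw [mul_one, hsq a ha]⟩
      mul_mem' := fun {x y} hx hy => ⟨mul_mem hx.1 hy.1, by rw [hmul (hsq a ha), hx.2, hy.2]⟩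
      inv_mem' := fun {x} hx => ⟨inv_mem hx.1, by rw [hinv (hsq a ha), hx.2]⟩ }
  let Lm : Subgroup P :=
    { carrier := {x | x ∈ Q ∧ a * x * a = x⁻¹}
      one_mem' := ⟨one_mem _, by rw [mul_one, hsq a ha, inv_one]⟩
      mul_mem' := fun {x y} hx hy => ⟨mul_mem hx.1 hy.1, by
        rw [hmul (hsq a ha), hx.2, hy.2, _root_.mul_inv_rev, hcQ _ (inv_mem hx.1) _ (inv_mem hy.1)]⟩
      inv_mem' := fun {x} hx => ⟨inv_mem hx.1, by rw [hinv (hsq a ha), hx.2]⟩ }
  have hQsup : Q ≤ Lp ⊔ Lm := by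
    intro x hx
    set w := a * x * a with hw
    have hwQ : w ∈ Q := hn a ha x hx
    have haw : a * w * a = x := by rw [hw, show a * (a * x * a) * a = (a * a) * x * (a * a) by group, hsq a ha]; group
    have h1 : x * w ∈ Lp := ⟨mul_mem hx hwQ, by rw [hmul (hsq a ha), ← hw, haw, hcQ _ hwQ _ hx]⟩
    have h2 : x * w⁻¹ ∈ Lm := ⟨mul_mem hx (inv_mem hwQ), by
      rw [hmul (hsq a ha), hinv (hsq a ha), ← hw, haw, _root_.mul_inv_rev, inv_inv]⟩
    have h3 : x * x ∈ Lp ⊔ Lm := by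
      have h := mul_mem (mem_sup_left (T := Lm) h1) (mem_sup_right (S := Lp) h2)
      rwa [show x * w * (x * w⁻¹) = x * (w * x) * w⁻¹ by group, hcQ _ hwQ _ hx, ← mul_assoc,
        mul_inv_cancel_right] at h
    obtain ⟨k, hk⟩ := hp.odd_of_ne_two hp2
    have h4 : (x * x) ^ (k + 1) = x := by
      rw [← pow_two, ← pow_mul, show 2 * (k + 1) = p + 1 by omega, pow_succ, hQ.2 x hx, one_mul]
    exact h4 ▸ pow_mem h3 _
  have hne : ∀ {L M : Subgroup P}, Q ≤ L ⊔ M → M ≤ Q → L ≤ Q → ¬ Q ≤ L → ¬ Q ≤ M → Nat.card L = p := by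
    intro L M hQLM _ hLQ hQL hQM
    have hd : Nat.card L ∣ p ^ 2 := hQc ▸ card_dvd_of_le hLQ
    obtain ⟨i, hi, he⟩ := (Nat.dvd_prime_pow hp).1 hd
    interval_cases i
    · rw [pow_zero, Subgroup.card_eq_one] at he
      rw [he, bot_sup_eq] at hQLM
      exact absurd hQLM hQM
    · rwa [pow_one] at he
    · exact absurd (eq_of_le_of_card_ge hLQ (by rw [hQc, he])).ge hQL
  have hQp : ¬ Q ≤ Lp := fun h => ha1 (hfaith a ha fun x hx => (h hx).2)
  have hQm : ¬ Q ≤ Lm := fun h => hx₀' (h hx₀).2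
  have hcp : Nat.card Lp = p := hne hQsup (fun x hx => hx.1) (fun x hx => hx.1) hQp hQm
  have hcm : Nat.card Lm = p := hne (L := Lm) (M := Lp) (sup_comm Lp Lm ▸ hQsup) (fun x hx => hx.1) (fun x hx => hx.1) hQm hQp
  have hab : ∀ b ∈ A, ∀ x : P, a * (b * x * b) * a = b * (a * x * a) * b := fun b hb x =>
    calc a * (b * x * b) * a = (a * b) * x * (b * a) := by group
      _ = (b * a) * x * (a * b) := by rw [hcA a ha b hb]
      _ = _ := by group
  have hsp : ∀ b ∈ A, (∀ x ∈ Lp, b * x * b = x) ∨ ∀ x ∈ Lp, b * x * b = x⁻¹ := fun b hb =>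
    sign_of_card hp hp2 hcp (hsq b hb) fun x (hx : x ∈ Q ∧ _) => ⟨hn b hb x hx.1, by rw [hab b hb, hx.2]⟩
  have hsm : ∀ b ∈ A, (∀ x ∈ Lm, b * x * b = x) ∨ ∀ x ∈ Lm, b * x * b = x⁻¹ := fun b hb =>
    sign_of_card hp hp2 hcm (hsq b hb) fun x (hx : x ∈ Q ∧ _) => ⟨hn b hb x hx.1, by rw [hab b hb, hx.2, hinv (hsq b hb)]⟩
  let f : A → Prop × Prop := fun b => (∀ x ∈ Lp, (b : P) * x * b = x, ∀ x ∈ Lm, (b : P) * x * b = x)
  have hinj : Function.Injective f := by
    rintro ⟨b, hb⟩ ⟨b', hb'⟩ he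
    simp only [f, Prod.mk.injEq] at he
    refine Subtype.ext ?_
    have hone : ∀ {L : Subgroup P}, (∀ d ∈ A, (∀ x ∈ L, d * x * d = x) ∨ ∀ x ∈ L, d * x * d = x⁻¹) →
        ((∀ x ∈ L, b * x * b = x) = ∀ x ∈ L, b' * x * b' = x) → ∀ x ∈ L, b * b' * x * (b * b') = x := by
      intro L hs hiff x hx
      rw [show b * b' * x * (b * b') = b * b' * x * (b' * b) by rw [hcA b hb b' hb'],
        show b * b' * x * (b' * b) = b * (b' * x * b') * b by group]
      by_cases h : ∀ y ∈ L, b * y * b = y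
      · rw [(Eq.mp hiff h) x hx, h x hx]
      · rw [((hs b' hb').resolve_left fun hh => h (Eq.mpr hiff hh)) x hx, hinv (hsq b hb), ((hs b hb).resolve_left h) x hx, inv_inv]
    have h1 : b * b' = 1 := hfaith _ (mul_mem hb hb') fun x hx => by
      have hle : Lp ⊔ Lm ≤ (centralizer ({b * b'} : Set P)) := sup_le
        (fun y hy => mem_centralizer_singleton_iff.2 ?_) (fun y hy => mem_centralizer_singleton_iff.2 ?_)
      · rw [(mem_centralizer_singleton_iff.1 (hle (hQsup hx))).symm, mul_assoc, hsq _ (mul_mem hb hb'), mul_one]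
      all_goals
        first
        | (have h := hone hsp he.1 y hy
           calc y * (b * b') = (b * b' * y * (b * b')) * (b * b') := by rw [h]
             _ = b * b' * y := by rw [mul_assoc _ (b * b'), hsq _ (mul_mem hb hb'), mul_one])
        | (have h := hone hsm he.2 y hy
           calc y * (b * b') = (b * b' * y * (b * b')) * (b * b') := by rw [h]
             _ = b * b' * y := by rw [mul_assoc _ (b * b'), hsq _ (mul_mem hb hb'), mul_one])
    show b = b'
    exact (eq_inv_of_mul_eq_one_left h1).trans (inv_eq_of_mul_eq_one_right (hsq b' hb'))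
  have h4 : Nat.card A ≤ 4 := (Nat.card_le_card_of_injective f hinj).trans (by simp [Nat.card_prod])
  refine ⟨h4, ?_⟩
  by_cases hc : ∃ b ∈ A, ¬ ∀ x ∈ Lp, b * x * b = x
  · obtain ⟨b, hb, hb'⟩ := hc
    replace hb' := (hsp b hb).resolve_left hb'
    refine Or.inl ?_
    have key : ∀ d ∈ A, (∀ x ∈ Lp, d * x * d = x⁻¹) → (∀ x ∈ Lm, d * x * d = x⁻¹) →
        ∀ x ∈ Q, d * x * d = x⁻¹ := by
      intro d hd h1 h2 x hx
      have h := hQsup hx
      rw [← SetLike.mem_coe, coe_mul_of_left_le_normalizer_right Lp Lm (fun y hy => centralizer_le_normalizer _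
        (mem_centralizer_iff.2 fun z hz => hcQ z hz.1 y hy.1))] at h
      obtain ⟨y, hy, z, hz, rfl⟩ := h
      rw [hmul (hsq d hd), h1 y hy, h2 z hz, _root_.mul_inv_rev, hcQ _ (inv_mem hy.1) _ (inv_mem hz.1)]
    rcases hsm b hb with h | h
    · refine ⟨a * b, mul_mem ha hb, key _ (mul_mem ha hb) (fun x hx => ?_) fun x hx => ?_⟩
      · rw [show a * b * x * (a * b) = a * b * x * (b * a) by rw [hcA a ha b hb],
          show a * b * x * (b * a) = a * (b * x * b) * a by group, hb' x hx, hinv (hsq a ha), hx.2]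
      · rw [show a * b * x * (a * b) = a * b * x * (b * a) by rw [hcA a ha b hb],
          show a * b * x * (b * a) = a * (b * x * b) * a by group, h x hx, hx.2]
    · exact ⟨b, hb, key b hb hb' h⟩
  · push Not at hc
    refine Or.inr ?_
    refine (Nat.card_le_card_of_injective (fun b : A => (f b).2) fun b b' he => hinj (Prod.ext ?_ he)).trans
      (by simp)
    exact propext ⟨fun _ => hc b' b'.2, fun _ => hc b b.2⟩

end Cfsg.Lib.QTSolv
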